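import Mathlib
import Cfsg.Agent.H184.Cov.Kills
import Cfsg.Agent.H424.Spr.Two

/-!
# 3/2-generation of `PSL_n(q)`, `n ≥ 3`: the frame (helper59)

`x` = the element of type `(n - 1, 1)`: it fixes exactly one point and exactly one hyperplane. `Over n K`: a subgroup of
`SL_n(q)` containing `x` is everything or fixes a point or a hyperplane. `spr_psl_of` : then `PSL_n(q)` satisfies `Spr`.
`spr_psl_five` : the case `n ≥ 5` (helper184's `over_k`).
-/

set_option autoImplicit false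
set_option linter.unusedSectionVars false

namespace Cfsg.Agent.H59.SprPsl

open Module Cfsg.Agent.H184.Cov Cfsg.Agent.H424.Spr

variable {K : Type} [Field K] [Fintype K]

/-- subgroups of `SL_n(q)` containing an element of type `(n - 1, 1)` -/
def Over (n : ℕ) (K : Type) [Field K] : Prop :=
  ∀ (L : Type) [Field L] [Algebra K L] [Finite L] (H : Subgroup ((Fin n → K) ≃ₗ[K] (Fin n → K)))
    (x : (Fin n → K) ≃ₗ[K] (Fin n → K)) (ω : Lˣ), x ∈ H → IsGen ω → TwoT L K x ω (nm ω)⁻¹ →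
    (∀ h ∈ H, LinearMap.det (h : (Fin n → K) →ₗ[K] (Fin n → K)) = 1) →
    (∀ g : (Fin n → K) ≃ₗ[K] (Fin n → K), LinearMap.det (g : (Fin n → K) →ₗ[K] (Fin n → K)) = 1 → g ∈ H) ∨ Red H

section stab

variable {V : Type} [AddCommGroup V] [Module K V]

/-- the stabilizer of the point `⟨v⟩` -/
def pStab (v : V) : Subgroup (V ≃ₗ[K] V) where
  carrier := {g | (∃ c : K, g v = c • v) ∧ ∃ c : K, g.symm v = c • v}
  one_mem' := ⟨⟨1, by simp⟩, ⟨1, by simp only [one_smul]; rfl⟩⟩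
  mul_mem' := by
    rintro g h ⟨⟨a, ha⟩, b, hb⟩ ⟨⟨c, hc⟩, d, hd⟩
    refine ⟨⟨c * a, ?_⟩, ⟨b * d, ?_⟩⟩
    · change g (h v) = _
      rw [hc, map_smul, ha, mul_smul]
    · change h.symm (g.symm v) = _
      rw [hb, map_smul, hd, mul_smul]
  inv_mem' := by
    rintro g ⟨h1, h2⟩
    exact ⟨h2, h1⟩

/-- the stabilizer of the hyperplane `ker φ` -/
def hStab (φ : V →ₗ[K] K) : Subgroup (V ≃ₗ[K] V) where
  carrier := {g | (∃ c : K, ∀ v, φ (g v) = c * φ v) ∧ ∃ c : K, ∀ v, φ (g.symm v) = c * φ v}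
  one_mem' := ⟨⟨1, by simp⟩, ⟨1, by intro v; rw [one_mul]; rfl⟩⟩
  mul_mem' := by
    rintro g h ⟨⟨a, ha⟩, b, hb⟩ ⟨⟨c, hc⟩, d, hd⟩
    refine ⟨⟨a * c, fun v => ?_⟩, ⟨d * b, fun v => ?_⟩⟩
    · change φ (g (h v)) = _
      rw [ha, hc, mul_assoc]
    · change φ (h.symm (g.symm v)) = _
      rw [hd, hb, mul_assoc]
  inv_mem' := by
    rintro g ⟨h1, h2⟩
    exact ⟨h2, h1⟩

theorem mem_pStab {v : V} {g : V ≃ₗ[K] V} (h : ∃ c : K, g v = c • v) : g ∈ pStab v := by
  refine ⟨h, ?_⟩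
  obtain ⟨c, hc⟩ := h
  by_cases h0 : c = 0
  · rw [h0, zero_smul, LinearEquiv.map_eq_zero_iff] at hc
    exact ⟨0, by rw [hc, map_zero, smul_zero]⟩
  · refine ⟨c⁻¹, ?_⟩
    apply g.injective
    rw [LinearEquiv.apply_symm_apply, map_smul, hc, smul_smul, inv_mul_cancel₀ h0, one_smul]

theorem mem_hStab {φ : V →ₗ[K] K} {g : V ≃ₗ[K] V} (h : ∃ c : K, ∀ v, φ (g v) = c * φ v) : g ∈ hStab φ := by
  refine ⟨h, ?_⟩
  obtain ⟨c, hc⟩ := h
  by_cases h0 : c = 0
  · refine ⟨0, fun v => ?_⟩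
    have h1 := hc (g.symm (g.symm v))
    rw [LinearEquiv.apply_symm_apply, h0, zero_mul] at h1
    rw [h1, zero_mul]
  · refine ⟨c⁻¹, fun v => ?_⟩
    have h1 := hc (g.symm v)
    rw [LinearEquiv.apply_symm_apply] at h1
    rw [h1, inv_mul_cancel_left₀ h0]

end stab

section eig

variable {V : Type} [AddCommGroup V] [Module K V] {L : Type} [Field L] [Algebra K L] {x : V ≃ₗ[K] V} {ω : Lˣ} {ν : Kˣ}
  {e : V ≃ₗ[K] L × K}

/-- the only fixed point of `x` -/
theorem eig_vec (he : ∀ v, e (x v) = ((ω : L) * (e v).1, (ν : K) * (e v).2)) (hω : ∀ c : K, (ω : L) ≠ algebraMap K L c)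
    {v : V} {c : K} (h : x v = c • v) : ∃ b : K, v = b • e.symm (0, 1) := by
  have h1 := congrArg e h
  rw [he, map_smul] at h1
  have h2 : (ω : L) * (e v).1 = c • (e v).1 := congrArg Prod.fst h1
  rw [Algebra.smul_def] at h2
  have h4 : (e v).1 = 0 := by
    by_contra h0
    exact hω c (mul_right_cancel₀ h0 h2)
  refine ⟨(e v).2, e.injective ?_⟩
  rw [map_smul, e.apply_symm_apply]
  refine Prod.ext ?_ ?_
  · rw [h4]
    change (0 : L) = (e v).2 • (0 : L)
    rw [smul_zero]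
  · change (e v).2 = (e v).2 • (1 : K)
    rw [smul_eq_mul, mul_one]

/-- the only hyperplane fixed by `x` -/
theorem eig_fun (he : ∀ v, e (x v) = ((ω : L) * (e v).1, (ν : K) * (e v).2)) (hω : ∀ c : K, (ω : L) ≠ algebraMap K L c)
    {φ : V →ₗ[K] K} {c : K} (h : ∀ v, φ (x v) = c * φ v) : ∀ v, φ v = φ (e.symm (0, 1)) * (e v).2 := by
  have hd : (ω : L) - algebraMap K L c ≠ 0 := sub_ne_zero.2 (hω c)
  have h1 : ∀ a : L, φ (e.symm (a, 0)) = 0 := by
    intro a
    have h2 := h (e.symm (((ω : L) - algebraMap K L c)⁻¹ * a, 0))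
    have h3 : x (e.symm (((ω : L) - algebraMap K L c)⁻¹ * a, 0)) =
        e.symm ((ω : L) * (((ω : L) - algebraMap K L c)⁻¹ * a), 0) := by
      apply e.injective
      rw [he, e.apply_symm_apply, e.apply_symm_apply, mul_zero]
    have h4 : e.symm (a, 0) = e.symm ((ω : L) * (((ω : L) - algebraMap K L c)⁻¹ * a), 0) -
        c • e.symm (((ω : L) - algebraMap K L c)⁻¹ * a, 0) := by
      rw [← map_smul, ← map_sub]
      congr 1
      refine Prod.ext ?_ ?_
      · change a = (ω : L) * (((ω : L) - algebraMap K L c)⁻¹ * a) - c • (((ω : L) - algebraMap K L c)⁻¹ * a)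
        rw [Algebra.smul_def, ← sub_mul, mul_inv_cancel_left₀ hd]
      · change (0 : K) = (0 : K) - c • (0 : K)
        rw [smul_zero, sub_zero]
    rw [h4, map_sub, ← h3, h2, map_smul, smul_eq_mul, sub_self]
  intro v
  have h2 : v = e.symm ((e v).1, 0) + (e v).2 • e.symm (0, 1) := by
    apply e.injective
    rw [map_add, map_smul, e.apply_symm_apply, e.apply_symm_apply]
    refine Prod.ext ?_ ?_
    · change (e v).1 = (e v).1 + (e v).2 • (0 : L)
      rw [smul_zero, add_zero]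
    · change (e v).2 = 0 + (e v).2 • (1 : K)
      rw [zero_add, smul_eq_mul, mul_one]
  conv_lhs => rw [h2, map_add, h1, zero_add, map_smul, smul_eq_mul, mul_comm]

end eig

/-- **The frame.** -/
theorem spr_psl_of {n : ℕ} (hn : 3 ≤ n) [IsSimpleGroup (Matrix.ProjectiveSpecialLinearGroup (Fin n) K)]
    (hna : ∃ x y : Matrix.ProjectiveSpecialLinearGroup (Fin n) K, x * y ≠ y * x) (hov : Over n K) :
    Spr (Matrix.ProjectiveSpecialLinearGroup (Fin n) K) := by
  have hdim : finrank K (Fin n → K) = n := by simp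
  have hq : 2 ≤ Nat.card K := one_lt_q
  let ρ : Matrix.SpecialLinearGroup (Fin n) K →* ((Fin n → K) ≃ₗ[K] (Fin n → K)) := Matrix.SpecialLinearGroup.toLin'
  have hρ : Function.Injective ρ := Matrix.SpecialLinearGroup.toLin'_injective
  have hdet : ∀ y : Matrix.SpecialLinearGroup (Fin n) K,
      LinearMap.det ((ρ y : (Fin n → K) ≃ₗ[K] (Fin n → K)) : (Fin n → K) →ₗ[K] (Fin n → K)) = 1 := by
    intro y
    have h1 : ((ρ y : (Fin n → K) ≃ₗ[K] (Fin n → K)) : (Fin n → K) →ₗ[K] (Fin n → K)) =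
        Matrix.toLin' (y : Matrix (Fin n) (Fin n) K) := Matrix.SpecialLinearGroup.toLin'_to_linearMap y
    rw [h1, LinearMap.det_toLin', Matrix.SpecialLinearGroup.det_coe]
  -- `x`
  obtain ⟨L1, i1, i1', i1'', hL1⟩ := exists_ext K (k := n - 1) (by omega)
  obtain ⟨ω, hω⟩ := exists_gen (L := L1)
  obtain ⟨x, hx, htx⟩ := exists_two (V := Fin n → K) L1 K (by rw [hL1, hdim, finrank_self]; omega) ω (nm ω)⁻¹ (by
    have h1 : nm (K := K) (L := K) ((nm ω : Kˣ)⁻¹) = ((nm ω : Kˣ)⁻¹) := by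
      apply Units.ext
      change Algebra.norm K (((nm ω : Kˣ)⁻¹ : Kˣ) : K) = _
      rw [Algebra.norm_self]
      rfl
    rw [h1, mul_inv_cancel])
  -- `s`
  obtain ⟨S, iS, iS', iS'', hS⟩ := exists_ext K (k := n) (by omega)
  obtain ⟨γ, hγ⟩ := exists_gen (L := S)
  obtain ⟨s, hs, hts⟩ := exists_one (V := Fin n → K) S (by rw [hS, hdim]) (γ ^ (Nat.card K - 1)) (by
    rw [map_pow, ← card_units_base]
    exact pow_card_eq_one')
  have hgenK : ∀ c : K, (ω : L1) ≠ algebraMap K L1 c := by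
    intro c hc
    have h4 := hω.base_pow (i := 1) (c := c) (by rwa [pow_one])
    rw [one_mul] at h4
    have h5 := Nat.le_of_dvd (by omega) h4
    have h6 : Nat.card K ^ 1 < Nat.card K ^ finrank K L1 := Nat.pow_lt_pow_right (by omega) (by omega)
    rw [pow_one] at h6
    omega
  have hsE : NoEig s := by
    refine hts.noEig fun c hc => ?_
    have h4 := hγ.base_pow hc
    have h5 := Nat.le_of_dvd (Nat.mul_pos (by omega) (by omega)) h4
    rw [hS] at h5
    have h6 : Nat.card K ^ 2 ≤ Nat.card K ^ n := Nat.pow_le_pow_right (by omega) (by omega)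
    obtain ⟨m, hm⟩ : ∃ m, Nat.card K = m + 1 := ⟨Nat.card K - 1, by omega⟩
    rw [hm, Nat.add_sub_cancel] at h5
    rw [hm] at h6
    have h7 : (m + 1) ^ 2 = m * m + 2 * m + 1 := by ring
    omega
  obtain ⟨x₀, hx₀⟩ := exists_sl hx
  obtain ⟨s₀, hs₀⟩ := exists_sl hs
  obtain ⟨e, he⟩ := id htx
  -- the point and the hyperplane
  let v₀ : Fin n → K := e.symm (0, 1)
  let φ₀ : (Fin n → K) →ₗ[K] K := LinearMap.snd K L1 K ∘ₗ (e : (Fin n → K) →ₗ[K] L1 × K)
  have hφv : φ₀ v₀ = 1 := by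
    change (e (e.symm (0, 1))).2 = 1
    rw [e.apply_symm_apply]
  have hv0 : v₀ ≠ 0 := by
    intro h0
    rw [h0, map_zero] at hφv
    exact zero_ne_one hφv
  have hφ0 : φ₀ ≠ 0 := by
    intro h0
    rw [h0] at hφv
    exact zero_ne_one hφv
  have hxv : x v₀ = ((nm ω : Kˣ)⁻¹ : Kˣ).1 • v₀ := by
    apply e.injective
    rw [he, map_smul]
    change ((ω : L1) * (e (e.symm (0, 1))).1, _ * (e (e.symm (0, 1))).2) = _ • e (e.symm (0, 1))
    rw [e.apply_symm_apply]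
    refine Prod.ext ?_ ?_
    · change (ω : L1) * 0 = _ • (0 : L1)
      rw [mul_zero, smul_zero]
    · rfl
  have hxφ : ∀ v, φ₀ (x v) = ((nm ω : Kˣ)⁻¹ : Kˣ).1 * φ₀ v := by
    intro v
    change (e (x v)).2 = _ * (e v).2
    rw [he]
  have hne : ∀ M : Subgroup ((Fin n → K) ≃ₗ[K] (Fin n → K)), Red M → M.comap ρ ≠ ⊤ := by
    intro M hM htop
    refine hsE.not_red (H := M) ?_ hM
    rw [← hs₀]
    change s₀ ∈ M.comap ρ
    rw [htop]
    exact Subgroup.mem_top _
  have hR1 : Red (pStab (K := K) v₀) := Or.inl ⟨v₀, hv0, fun h hh => hh.1⟩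
  have hR2 : Red (hStab (K := K) φ₀) := Or.inr ⟨φ₀, hφ0, fun h hh => hh.1⟩
  have hxM1 : x ∈ pStab (K := K) v₀ := mem_pStab ⟨_, hxv⟩
  have hxM2 : x ∈ hStab (K := K) φ₀ := mem_hStab ⟨_, hxφ⟩
  -- elements centralising `x`
  have hker : ∀ z ∈ (QuotientGroup.mk' (Subgroup.center (Matrix.SpecialLinearGroup (Fin n) K))).ker,
      ρ z * x = x * ρ z := by
    intro z hz
    rw [QuotientGroup.ker_mk'] at hz
    rw [← hx₀]
    change ρ z * ρ x₀ = ρ x₀ * ρ z
    rw [← map_mul, ← map_mul, Subgroup.mem_center_iff.1 hz]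
  refine spr_of_two_up (s := x₀) (M₁ := (pStab (K := K) v₀).comap ρ) (M₂ := (hStab (K := K) φ₀).comap ρ) hna
    (QuotientGroup.mk' (Subgroup.center (Matrix.SpecialLinearGroup (Fin n) K))) (QuotientGroup.mk'_surjective _) ?_ ?_
    (hne _ hR1) (hne _ hR2) ?_ ?_
  · intro z hz
    refine mem_pStab (K := K) ?_
    have h1 : x (ρ z v₀) = ((nm ω : Kˣ)⁻¹ : Kˣ).1 • ρ z v₀ := by
      rw [← map_smul, ← hxv]
      exact (DFunLike.congr_fun (hker z hz) v₀).symm
    exact eig_vec he hgenK h1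
  · intro z hz
    refine mem_hStab (K := K) ⟨φ₀ (ρ z v₀), fun v => ?_⟩
    have h1 : ∀ v, (φ₀ ∘ₗ (ρ z : (Fin n → K) →ₗ[K] (Fin n → K))) (x v) =
        ((nm ω : Kˣ)⁻¹ : Kˣ).1 * (φ₀ ∘ₗ (ρ z : (Fin n → K) →ₗ[K] (Fin n → K))) v := by
      intro v
      change φ₀ (ρ z (x v)) = _ * φ₀ (ρ z v)
      rw [← hxφ]
      exact congrArg φ₀ (DFunLike.congr_fun (hker z hz) v)
    exact eig_fun he hgenK h1 v
  · intro y hy
    rw [← hy]
    have h1 : x₀ ∈ ((pStab (K := K) v₀).comap ρ).map (MulAut.conj y).toMonoidHom := by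
      rw [hy]
      change ρ x₀ ∈ hStab (K := K) φ₀
      have : ρ x₀ = x := hx₀
      rwa [this]
    obtain ⟨w, hw, hwx⟩ := h1
    -- `x` fixes `y v₀`
    have h2 : ρ y ∈ pStab (K := K) v₀ := by
      refine mem_pStab ?_
      obtain ⟨c, hc⟩ := hw.1
      have h3 : x (ρ y v₀) = c • ρ y v₀ := by
        have h4 : ρ (MulAut.conj y w) = x := by
          rw [← hx₀]
          exact congrArg ρ hwx
        rw [← h4, MulAut.conj_apply, map_mul, map_mul, map_inv]
        change ρ y (ρ w ((ρ y)⁻¹ (ρ y v₀))) = _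
        have h5 : ((ρ y)⁻¹ : (Fin n → K) ≃ₗ[K] (Fin n → K)) (ρ y v₀) = v₀ := (ρ y).symm_apply_apply v₀
        rw [h5, hc, map_smul]
      exact eig_vec he hgenK h3
    have h3 : y ∈ (pStab (K := K) v₀).comap ρ := h2
    ext z
    constructor
    · intro hz
      refine ⟨y⁻¹ * z * y, mul_mem (mul_mem (inv_mem h3) hz) h3, ?_⟩
      change y * (y⁻¹ * z * y) * y⁻¹ = z
      group
    · rintro ⟨w, hw, rfl⟩
      exact mul_mem (mul_mem h3 hw) (inv_mem h3)
  · intro H _ hxH hHt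
    have hmem : x ∈ H.map ρ := ⟨x₀, hxH, hx₀⟩
    rcases hov L1 (H.map ρ) x ω hmem hω htx (by
      rintro _ ⟨y, -, rfl⟩
      exact hdet y) with h | h | h
    · exfalso
      apply hHt
      rw [eq_top_iff]
      intro y _
      obtain ⟨z, hz, hzy⟩ := h (ρ y) (hdet y)
      rwa [← hρ hzy]
    · left
      obtain ⟨v, hv, h⟩ := h
      intro y hy
      obtain ⟨c, hc⟩ := h x hmem
      obtain ⟨b, hb⟩ := eig_vec he hgenK hc
      have hb0 : b ≠ 0 := by
        rintro rfl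
        exact hv (by rw [hb, zero_smul])
      refine mem_pStab (K := K) ?_
      obtain ⟨c', hc'⟩ := h (ρ y) ⟨y, hy, rfl⟩
      refine ⟨c', ?_⟩
      rw [hb, map_smul, smul_comm c' b] at hc'
      exact smul_right_injective _ hb0 hc'
    · right
      obtain ⟨φ, hφ, h⟩ := h
      intro y hy
      obtain ⟨c, hc⟩ := h x hmem
      have hb := eig_fun he hgenK hc
      have hb0 : φ (e.symm (0, 1)) ≠ 0 := by
        intro h0
        apply hφ
        refine LinearMap.ext fun v => ?_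
        rw [hb, h0, zero_mul]
        rfl
      refine mem_hStab (K := K) ?_
      obtain ⟨c', hc'⟩ := h (ρ y) ⟨y, hy, rfl⟩
      refine ⟨c', fun v => ?_⟩
      have h1 := hc' v
      rw [hb, hb v, mul_left_comm] at h1
      exact mul_left_cancel₀ hb0 h1

theorem over_five {n : ℕ} (hn : 5 ≤ n) : Over n K := by
  intro L _ _ _ H x ω hx hω ht _
  exact over_k (by simpa using hn) hx hω ht

/-- **The row `PSL_n(q)`, `n ≥ 5`.** -/
theorem spr_psl_five {n : ℕ} (hn : 5 ≤ n) [IsSimpleGroup (Matrix.ProjectiveSpecialLinearGroup (Fin n) K)]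
    (hna : ∃ x y : Matrix.ProjectiveSpecialLinearGroup (Fin n) K, x * y ≠ y * x) :
    Spr (Matrix.ProjectiveSpecialLinearGroup (Fin n) K) :=
  spr_psl_of (by omega) hna (over_five hn)

end Cfsg.Agent.H59.SprPsl
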