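import Mathlib
import Cfsg.Agent.H184.Cov.Kills
import Cfsg.Agent.H59.Spr.Frame

/-!
# Overgroups of an element of type `(2, 1)` in `SL_3(q)`, `q ≥ 3`, `q ≠ 4` (helper59)

`kside_three` : a subgroup of `GL_3(q)`, `q ≠ 4`, containing the element `x = (ω, N(ω)⁻¹)` is transitive on the points or
fixes a point or a line [the orbit of the line of `x` is a dual maximal arc; its degree divides `q`].
(helper184's `kside` with another arithmetic at the end.)
`over_three` : it contains `SL_3(q)` or fixes a point or a line.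
-/

set_option autoImplicit false
set_option linter.unusedSectionVars false

namespace Cfsg.Agent.H59.SprPsl

open Module Cfsg.Agent.H184.Cov

section count

variable {K : Type} [Field K] [Finite K] {L : Type} [Field L] [Algebra K L] [Finite L]
  {W : Type} [AddCommGroup W] [Module K W]

theorem nm_eq {ω : Lˣ} (hL : finrank K L = 2) : algebraMap K L ((nm ω : Kˣ) : K) = (ω : L) ^ (Nat.card K + 1) := by
  have h1 : algebraMap K L (Algebra.norm K (ω : L)) = (ω : L) ^ ((Nat.card L - 1) / (Nat.card K - 1)) :=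
    FiniteField.algebraMap_norm_eq_pow
  have hq : 1 < Nat.card K := one_lt_q
  have h2 : (Nat.card L - 1) / (Nat.card K - 1) = Nat.card K + 1 := by
    rw [card_field (K := K) (L := L), hL]
    obtain ⟨m, hm⟩ : ∃ m, Nat.card K = m + 1 := ⟨Nat.card K - 1, by omega⟩
    rw [hm, Nat.add_sub_cancel]
    have h3 : (m + 1) ^ 2 - 1 = m * (m + 1 + 1) := by
      have : (m + 1) ^ 2 = m * (m + 1 + 1) + 1 := by ring
      omega
    rw [h3, Nat.mul_div_cancel_left _ (by omega)]
  rw [h2] at h1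
  exact h1

theorem three_dvd [Finite W] {y : W ≃ₗ[K] W} {ω : Lˣ} (hω : IsGen ω) {e : W ≃ₗ[K] L × K} (hL : finrank K L = 2)
    (he : ∀ v, e (y v) = ((ω : L) * (e v).1, (((nm ω)⁻¹ : Kˣ) : K) * (e v).2)) (A : Set W)
    (hA : ∀ w ∈ A, (e w).1 ≠ 0 ∧ (e w).2 ≠ 0) (hc : ∀ (c : K), c ≠ 0 → ∀ w ∈ A, c • w ∈ A)
    (hy : ∀ w ∈ A, y w ∈ A) {j : ℕ} (hj : A.ncard = j * (Nat.card K ^ 2 - 1)) : Nat.card K - 1 ∣ 3 * j := by
  obtain ⟨q, hq⟩ : ∃ q, q = Nat.card K := ⟨_, rfl⟩
  have hq1 : 1 < q := by rw [hq]; exact one_lt_q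
  let S : Set Lˣ := {a | e.symm ((a : L), 1) ∈ A}
  -- the bijection
  have hbij : Nat.card A = (q - 1) * Nat.card S := by
    rw [hq, ← card_units_base, ← Nat.card_prod]
    refine Nat.card_congr ?_
    exact
      { toFun := fun w => (Units.mk0 (e w).2 (hA w w.2).2,
          ⟨Units.mk0 ((e w).2⁻¹ • (e w).1) (smul_ne_zero (inv_ne_zero (hA w w.2).2) (hA w w.2).1), by
            change e.symm (((e w).2⁻¹ • (e w).1), 1) ∈ A
            have h1 : e.symm (((e w).2⁻¹ • (e w).1), (1 : K)) = (e w).2⁻¹ • (w : W) := by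
              apply e.injective
              rw [LinearEquiv.apply_symm_apply, map_smul]
              exact Prod.ext rfl (by
                change (1 : K) = (e w).2⁻¹ * (e w).2
                rw [inv_mul_cancel₀ (hA w w.2).2])
            rw [h1]
            exact hc _ (inv_ne_zero (hA w w.2).2) _ w.2⟩)
        invFun := fun p => ⟨(p.1 : K) • e.symm (((p.2 : Lˣ) : L), 1), hc _ p.1.ne_zero _ p.2.2⟩
        left_inv := fun w => by
          apply Subtype.ext
          apply e.injective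
          change e ((e w).2 • e.symm (((e w).2⁻¹ • (e w).1), 1)) = e w
          rw [map_smul, LinearEquiv.apply_symm_apply]
          exact Prod.ext (by
            change (e w).2 • (e w).2⁻¹ • (e w).1 = (e w).1
            rw [smul_inv_smul₀ (hA w w.2).2]) (by
            change (e w).2 * 1 = (e w).2
            rw [mul_one])
        right_inv := fun p => by
          have h1 : e ((p.1 : K) • e.symm (((p.2 : Lˣ) : L), 1)) = ((p.1 : K) • ((p.2 : Lˣ) : L), (p.1 : K)) := by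
            rw [map_smul, LinearEquiv.apply_symm_apply]
            exact Prod.ext rfl (mul_one _)
          refine Prod.ext (Units.ext ?_) (Subtype.ext (Units.ext ?_))
          · exact congrArg Prod.snd h1
          · change (e ((p.1 : K) • e.symm (((p.2 : Lˣ) : L), 1))).2⁻¹ •
              (e ((p.1 : K) • e.symm (((p.2 : Lˣ) : L), 1))).1 = ((p.2 : Lˣ) : L)
            rw [h1]
            exact inv_smul_smul₀ p.1.ne_zero _ }
  -- the divisibility
  have hstep : ∀ a ∈ S, ω ^ (q + 2) * a ∈ S := by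
    intro a ha
    have h1 := hc ((nm ω : Kˣ) : K) (nm ω : Kˣ).ne_zero _ (hy _ ha)
    have h2 : ((nm ω : Kˣ) : K) • y (e.symm ((a : L), (1 : K))) = e.symm (((ω ^ (q + 2) * a : Lˣ) : L), (1 : K)) := by
      apply e.injective
      rw [map_smul, he, LinearEquiv.apply_symm_apply, LinearEquiv.apply_symm_apply]
      refine Prod.ext ?_ ?_
      · change ((nm ω : Kˣ) : K) • ((ω : L) * (a : L)) = ((ω ^ (q + 2) * a : Lˣ) : L)
        rw [Algebra.smul_def, nm_eq hL, ← hq, Units.val_mul, Units.val_pow_eq_pow_val]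
        ring
      · change ((nm ω : Kˣ) : K) * ((((nm ω)⁻¹ : Kˣ) : K) * 1) = 1
        rw [mul_one, Units.mul_inv]
    rw [h2] at h1
    exact h1
  have hdvd : orderOf (ω ^ (q + 2)) ∣ Nat.card S := by
    rw [← Nat.card_zpowers]
    refine card_dvd_closed _ _ fun d hd a ha => ?_
    rw [← mem_powers_iff_mem_zpowers] at hd
    obtain ⟨i, rfl⟩ := hd
    induction i with
    | zero => simpa using ha
    | succ i ih =>
      change (ω ^ (q + 2)) ^ (i + 1) * a ∈ S
      rw [pow_succ', mul_assoc]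
      exact hstep _ ih
  -- arithmetic
  have hS : Nat.card S = j * (q + 1) := by
    rw [Nat.card_coe_set_eq, hj, ← hq] at hbij
    have h1 : q ^ 2 - 1 = (q - 1) * (q + 1) := by
      obtain ⟨m, rfl⟩ : ∃ m, q = m + 1 := ⟨q - 1, by omega⟩
      have : (m + 1) ^ 2 = m * (m + 1 + 1) + 1 := by ring
      rw [this, Nat.add_sub_cancel, Nat.add_sub_cancel]
    rw [h1] at hbij
    have h2 : (q - 1) * (j * (q + 1)) = (q - 1) * Nat.card S := by
      rw [← hbij]
      ring
    exact (Nat.eq_of_mul_eq_mul_left (by omega) h2).symm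
  have hord : q ^ 2 - 1 ∣ 3 * orderOf (ω ^ (q + 2)) := by
    have h1 : orderOf ω = q ^ 2 - 1 := by rw [hω.orderOf, card_units (K := K), hL, hq]
    have h2 : (ω ^ (q + 2)) ^ orderOf (ω ^ (q + 2)) = 1 := pow_orderOf_eq_one _
    rw [← pow_mul] at h2
    have h3 := orderOf_dvd_of_pow_eq_one h2
    rw [h1] at h3
    -- `q ^ 2 - 1 ∣ (q + 2) t`, so `q ^ 2 - 1 ∣ 3 t` as `(q + 2) (q - 2) + 3 = q ^ 2 - 1`
    generalize orderOf (ω ^ (q + 2)) = t at h3 ⊢
    have h4 : (q ^ 2 - 1) * t = (q + 2) * t * (q - 2) + 3 * t := by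
      obtain ⟨m, rfl⟩ : ∃ m, q = m + 2 := ⟨q - 2, by omega⟩
      have h5 : (m + 2) ^ 2 - 1 = (m + 2 + 2) * m + 3 := by
        have : (m + 2) ^ 2 = (m + 2 + 2) * m + 3 + 1 := by ring
        omega
      rw [h5, Nat.add_sub_cancel]
      ring
    have h5 : q ^ 2 - 1 ∣ (q + 2) * t * (q - 2) := Dvd.dvd.mul_right h3 _
    exact (Nat.dvd_add_right h5).1 (h4 ▸ Dvd.intro _ rfl)
  have h1 : q ^ 2 - 1 ∣ 3 * (j * (q + 1)) := by
    refine hord.trans ?_
    rw [← hS]
    exact Nat.mul_dvd_mul_left 3 hdvd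
  rw [← hq]
  have h2 : q ^ 2 - 1 = (q - 1) * (q + 1) := by
    obtain ⟨m, rfl⟩ : ∃ m, q = m + 1 := ⟨q - 1, by omega⟩
    have : (m + 1) ^ 2 = m * (m + 1 + 1) + 1 := by ring
    rw [this, Nat.add_sub_cancel, Nat.add_sub_cancel]
  rw [h2, ← mul_assoc] at h1
  exact Nat.dvd_of_mul_dvd_mul_right (by omega) h1

/-- the arithmetic -/
theorem arith_three {m i j : ℕ} (hm : 1 ≤ m) (h4 : m + 1 ≠ 4)
    (h : (1 + i) * (m + j * (m + 1 - 1)) = m + j * ((m + 1) * (m + 1) - 1)) (hd : m ∣ 3 * j) : j = 0 ∨ i = m := by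
  by_cases hj0 : j = 0
  · exact Or.inl hj0
  right
  have h1 : (m + 1) * (m + 1) - 1 = m * (m + 2) := by
    have : (m + 1) * (m + 1) = m * (m + 2) + 1 := by ring
    omega
  rw [Nat.add_sub_cancel, h1] at h
  have h2 : i * (1 + j) = j * (m + 1) := by
    have h3 : m * (1 + i + j + i * j) = m * (1 + j * (m + 2)) := by
      linarith [h]
    have h4 := Nat.eq_of_mul_eq_mul_left (by omega) h3
    nlinarith
  have h3 : 1 + j ∣ m + 1 := by
    have h5 : Nat.Coprime (1 + j) j := by simp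
    exact h5.dvd_of_dvd_mul_left (Dvd.intro_left i h2)
  obtain ⟨r, hr⟩ := h3
  have hr0 : r ≠ 0 := by
    rintro rfl
    omega
  by_cases hr1 : r = 1
  · rw [hr1, mul_one] at hr
    have h5 : j = m := by omega
    rw [h5, show 1 + m = m + 1 by ring] at h2
    exact Nat.eq_of_mul_eq_mul_right (by omega) h2
  exfalso
  have h5 : (1 + j) * 2 ≤ (1 + j) * r := Nat.mul_le_mul_left _ (by omega)
  obtain ⟨s, hs⟩ := hd
  have hs1 : s = 1 := by
    by_contra hs1
    have hs0 : s ≠ 0 := by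
      rintro rfl
      omega
    have h6 : m * 2 ≤ m * s := Nat.mul_le_mul_left _ (by omega)
    omega
  rw [hs1, mul_one] at hs
  -- `m = 3 j`, `1 + j ∣ 3 j + 1`
  have h6 : 1 + j ∣ 2 := by
    have h7 : 1 + j ∣ m + 1 := ⟨r, hr⟩
    have h8 : m + 1 + 2 = (1 + j) * 3 := by omega
    exact (Nat.dvd_add_right h7).1 (h8 ▸ Dvd.intro _ rfl)
  have h7 := Nat.le_of_dvd (by norm_num) h6
  omega

end count

section side

variable {K : Type} [Field K] [Finite K] {V : Type} [AddCommGroup V] [Module K V] [Finite V]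
  {L : Type} [Field L] [Algebra K L] [Finite L]

theorem kside_three {H : Subgroup (V ≃ₗ[K] V)} {x : V ≃ₗ[K] V} (hx : x ∈ H) {ω : Lˣ} (hω : IsGen ω)
    (ht : TwoT L K x ω (nm ω)⁻¹) (hk : finrank K L = 2) (hq4 : Nat.card K ≠ 4) :
    (∀ v w : V, v ≠ 0 → w ≠ 0 → ∃ h ∈ H, ∃ c : K, h v = c • w) ∨
      (∃ v, v ≠ 0 ∧ ∀ h ∈ H, ∃ c : K, h v = c • v) ∨
      (∃ φ : Dual K V, φ ≠ 0 ∧ ∀ h ∈ H, ∃ c : K, ∀ v, φ (h v) = c * φ v) := by
  classical
  obtain ⟨ν, hνdef⟩ : ∃ ν : Kˣ, ν = (nm ω)⁻¹ := ⟨_, rfl⟩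
  rw [← hνdef] at ht
  obtain ⟨e, he⟩ := ht
  obtain ⟨ℓ, hℓ⟩ := exists_form (K := K) (L := L)
  obtain ⟨e', he'⟩ := exists_dual e hℓ
  have hfin : Module.Finite K V := Module.Finite.of_finite
  have hfinL : Module.Finite K L := Module.Finite.of_finite
  have hfinD : Finite (Dual K V) := Module.finite_of_finite K
  -- the action of `x` on the dual space
  have hx' : ∀ φ : Dual K V, e' (x.dualMap φ) = ((ω : L) * (e' φ).1, (ν : K) * (e' φ).2) := by
    intro φ
    have h1 : x.dualMap φ = e'.symm ((ω : L) * (e' φ).1, (ν : K) * (e' φ).2) := by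
      ext v
      rw [LinearEquiv.dualMap_apply, he' φ (x v), he' (e'.symm _) v, LinearEquiv.apply_symm_apply, he]
      change ℓ ((e' φ).1 * ((ω : L) * (e v).1)) + (e' φ).2 * ((ν : K) * (e v).2) =
        ℓ ((ω : L) * (e' φ).1 * (e v).1) + (ν : K) * (e' φ).2 * (e v).2
      rw [show (e' φ).1 * ((ω : L) * (e v).1) = (ω : L) * (e' φ).1 * (e v).1 by ring]
      ring
    rw [h1, LinearEquiv.apply_symm_apply]
  obtain ⟨φ0, hφ0⟩ : ∃ φ0, φ0 = e'.symm (0, 1) := ⟨_, rfl⟩
  have hφ0' : ∀ v, φ0 v = (e v).2 := by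
    intro v
    rw [he', hφ0, LinearEquiv.apply_symm_apply, zero_mul, map_zero, zero_add, one_mul]
  have hφ00 : φ0 ≠ 0 := by
    rw [hφ0, Ne, LinearEquiv.map_eq_zero_iff]
    intro h
    exact one_ne_zero (congrArg Prod.snd h)
  let B : Set (Dual K V) := {φ | ∃ c : K, c ≠ 0 ∧ ∃ k ∈ H, ∀ v, φ v = c * φ0 (k v)}
  have hB0 : ∀ φ ∈ B, φ ≠ 0 := by
    rintro φ ⟨c, hc, k, hk, hφ⟩ rfl
    apply hφ00
    ext v
    have h1 := hφ (k.symm v)
    rw [LinearMap.zero_apply, LinearEquiv.apply_symm_apply] at h1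
    rw [LinearMap.zero_apply]
    exact (mul_eq_zero.1 h1.symm).resolve_left hc
  have hBc : ∀ (c : K), c ≠ 0 → ∀ φ ∈ B, c • φ ∈ B := by
    rintro c hc φ ⟨d, hd, k, hk, hφ⟩
    exact ⟨c * d, mul_ne_zero hc hd, k, hk, fun v => by
      rw [LinearMap.smul_apply, hφ, smul_eq_mul, mul_assoc]⟩
  have hBH : ∀ h ∈ H, ∀ φ ∈ B, φ ∘ₗ (h : V →ₗ[K] V) ∈ B := mul_mem_dual φ0
  have hBx : ∀ φ ∈ B, x.dualMap φ ∈ B := hBH x hx
  have hφ0B : φ0 ∈ B := ⟨1, one_ne_zero, 1, H.one_mem, fun v => by rw [one_mul]; rfl⟩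
  let A : Set V := {v | v ≠ 0 ∧ ∃ φ ∈ B, φ v = 0}
  have hAc : ∀ (c : K), c ≠ 0 → ∀ v ∈ A, c • v ∈ A := by
    rintro c hc v ⟨hv, φ, hφ, h⟩
    exact ⟨smul_ne_zero hc hv, φ, hφ, by rw [map_smul, h, smul_zero]⟩
  have hAH : ∀ h ∈ H, ∀ v ∈ A, h v ∈ A := by
    rintro h hh v ⟨hv, φ, hφ, h0⟩
    refine ⟨by rwa [Ne, LinearEquiv.map_eq_zero_iff], _, hBH h⁻¹ (H.inv_mem hh) φ hφ, ?_⟩
    change φ (h.symm (h v)) = 0
    rw [LinearEquiv.symm_apply_apply, h0]
  -- powers of `x`
  have hxpow : ∀ a b : L, a ≠ 0 → b ≠ 0 → ∃ i : ℕ, ((ω ^ i : Lˣ) : L) * a = b := by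
    intro a b ha hb
    obtain ⟨i, hi⟩ := hω.exists_pow (Units.mk0 b hb / Units.mk0 a ha)
    refine ⟨i, ?_⟩
    rw [hi, Units.val_div_eq_div_val, Units.val_mk0, Units.val_mk0, div_mul_cancel₀ _ ha]
  have hAt : ∀ v ∈ A, ∀ w ∈ A, ∃ h ∈ H, h v = w := by
    rintro v ⟨hv, φ, ⟨c, hc, k, hk, hφ⟩, h⟩ w ⟨hw, φ', ⟨c', hc', k', hk', hφ'⟩, h'⟩
    rw [hφ, hφ0'] at h
    rw [hφ', hφ0'] at h'
    have h1 := (mul_eq_zero.1 h).resolve_left hc
    have h1' := (mul_eq_zero.1 h').resolve_left hc'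
    have h2 : (e (k v)).1 ≠ 0 := by
      intro h3
      apply hv
      rw [← LinearEquiv.map_eq_zero_iff k, ← LinearEquiv.map_eq_zero_iff e]
      exact Prod.ext h3 h1
    have h2' : (e (k' w)).1 ≠ 0 := by
      intro h3
      apply hw
      rw [← LinearEquiv.map_eq_zero_iff k', ← LinearEquiv.map_eq_zero_iff e]
      exact Prod.ext h3 h1'
    obtain ⟨i, hi⟩ := hxpow _ _ h2 h2'
    refine ⟨k'⁻¹ * x ^ i * k, H.mul_mem (H.mul_mem (H.inv_mem hk') (H.pow_mem hx i)) hk, ?_⟩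
    change k'.symm ((x ^ i) (k v)) = w
    rw [LinearEquiv.symm_apply_eq]
    apply e.injective
    rw [twoT_pow he, hi, h1, mul_zero, ← h1']
  -- the first case
  by_cases hcase : ∃ φ ∈ B, (e' φ).2 = 0
  · left
    obtain ⟨φ, hφ, hd⟩ := hcase
    have hall : ∀ v, v ≠ 0 → v ∈ A := by
      intro v hv
      by_cases ha : (e v).1 = 0
      · exact ⟨hv, φ, hφ, by rw [he', ha, hd, mul_zero, map_zero, zero_mul, zero_add]⟩
      · have hb : (e' φ).1 ≠ 0 := by
          intro h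
          apply hB0 φ hφ
          rw [← LinearEquiv.map_eq_zero_iff e']
          exact Prod.ext h hd
        obtain ⟨a0, ha0, ha0'⟩ : ∃ a : L, a ≠ 0 ∧ ℓ a = 0 := by
          have h1 : finrank K K < finrank K L := by rw [finrank_self]; omega
          have h3 := LinearMap.ker_ne_bot_of_finrank_lt (f := ℓ) h1
          obtain ⟨a, h4, h5⟩ := (Submodule.ne_bot_iff _).1 h3
          exact ⟨a, h5, h4⟩
        obtain ⟨i, hi⟩ := hxpow _ ((e' φ).1⁻¹ * a0) ha (mul_ne_zero (inv_ne_zero hb) ha0)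
        refine ⟨hv, _, hBH (x ^ i) (H.pow_mem hx i) φ hφ, ?_⟩
        change φ ((x ^ i) v) = 0
        rw [he', twoT_pow he, hi, hd, zero_mul, add_zero, mul_inv_cancel_left₀ hb, ha0']
    intro v w hv hw
    obtain ⟨h, hh, hhv⟩ := hAt v (hall v hv) w (hall w hw)
    exact ⟨h, hh, 1, by rw [hhv, one_smul]⟩
  right
  push Not at hcase
  -- the counts
  obtain ⟨q, hq⟩ : ∃ q, q = Nat.card K := ⟨_, rfl⟩
  obtain ⟨Q, hQ⟩ : ∃ Q, Q = Nat.card K ^ finrank K L := ⟨_, rfl⟩
  obtain ⟨X, hX⟩ : ∃ X, X = Nat.card K ^ (finrank K L - 1) := ⟨_, rfl⟩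
  have hq1 : 1 < q := by rw [hq]; exact one_lt_q
  have hQX : Q = q * X := by
    rw [hQ, hX, hq, ← pow_succ']
    congr 1
    omega
  have hXq : X = q := by
    rw [hX, ← hq, hk, show 2 - 1 = 1 by rfl, pow_one]
  have hdim : finrank K V = finrank K L + 1 := by
    rw [e.finrank_eq, Module.finrank_prod, finrank_self]
  let B0 : Set (Dual K V) := {φ | φ ∈ B ∧ (e' φ).1 = 0}
  let B1 : Set (Dual K V) := {φ | φ ∈ B ∧ (e' φ).1 ≠ 0}
  have hBu : B = B0 ∪ B1 := by
    ext φ
    constructor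
    · intro h
      by_cases h1 : (e' φ).1 = 0
      · exact Or.inl ⟨h, h1⟩
      · exact Or.inr ⟨h, h1⟩
    · rintro (h | h)
      · exact h.1
      · exact h.1
  have hBd : Disjoint B0 B1 := by
    rw [Set.disjoint_left]
    rintro φ ⟨-, h1⟩ ⟨-, h2⟩
    exact h2 h1
  have hB0c : B0.ncard = q - 1 := by
    rw [← Nat.card_coe_set_eq, hq, ← card_units_base]
    refine Nat.card_congr ?_
    exact
      { toFun := fun φ => Units.mk0 (e' φ).2 (hcase φ φ.2.1)
        invFun := fun c => ⟨(c : K) • φ0, hBc c c.ne_zero φ0 hφ0B, by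
          rw [map_smul, hφ0, LinearEquiv.apply_symm_apply]
          exact smul_zero _⟩
        left_inv := fun φ => by
          apply Subtype.ext
          apply e'.injective
          change e' ((e' φ).2 • φ0) = e' φ
          rw [map_smul, hφ0, LinearEquiv.apply_symm_apply]
          exact Prod.ext (by
            change (e' φ).2 • (0 : L) = (e' φ).1
            rw [smul_zero, φ.2.2]) (mul_one _)
        right_inv := fun c => by
          apply Units.ext
          change (e' ((c : K) • φ0)).2 = c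
          rw [map_smul, hφ0, LinearEquiv.apply_symm_apply]
          exact mul_one _ }
  obtain ⟨j, hj, hB1c, -⟩ := count_pts (y := x.dualMap) hω hx' B1 (fun φ h => ⟨h.2, hcase φ h.1⟩)
    (fun c hc φ h => ⟨hBc c hc φ h.1, by
      rw [map_smul]
      exact smul_ne_zero hc h.2⟩)
    (fun φ h => ⟨hBx φ h.1, by
      rw [hx']
      exact mul_ne_zero ω.ne_zero h.2⟩)
  let U : Set V := {v | v ≠ 0 ∧ (e v).2 = 0}
  let A1 : Set V := {v | v ∈ A ∧ (e v).2 ≠ 0}
  have hUA : U ⊆ A := fun v hv => ⟨hv.1, φ0, hφ0B, by rw [hφ0']; exact hv.2⟩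
  have hAu : A = U ∪ A1 := by
    ext v
    constructor
    · intro h
      by_cases h1 : (e v).2 = 0
      · exact Or.inl ⟨h.1, h1⟩
      · exact Or.inr ⟨h, h1⟩
    · rintro (h | h)
      · exact hUA h
      · exact h.1
  have hAd : Disjoint U A1 := by
    rw [Set.disjoint_left]
    rintro φ ⟨-, h1⟩ ⟨-, h2⟩
    exact h2 h1
  have hUc : U.ncard = Q - 1 := by
    have h1 : U = {v : V | v ≠ 0 ∧ φ0 v = 0} := by
      ext v
      simp only [U, hφ0']
    rw [h1, card_ker hφ00, hdim, hQ, Nat.add_sub_cancel]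
  have hA0 : ∀ v ∈ A, (e v).1 ≠ 0 := by
    rintro v ⟨hv, φ, hφ, h⟩ h1
    rw [he', h1, mul_zero, map_zero, zero_add] at h
    apply hv
    rw [← LinearEquiv.map_eq_zero_iff e]
    exact Prod.ext h1 ((mul_eq_zero.1 h).resolve_left (hcase φ hφ))
  obtain ⟨i, hi, hA1c, hAll⟩ := count_pts hω he A1 (fun v h => ⟨hA0 v h.1, h.2⟩)
    (fun c hc v h => ⟨hAc c hc v h.1, by
      rw [map_smul]
      exact smul_ne_zero hc h.2⟩)
    (fun v h => ⟨hAH x hx v h.1, by
      rw [he]
      exact mul_ne_zero ν.ne_zero h.2⟩)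
  rw [← hQ] at hB1c hA1c
  rw [← hq] at hj hi hAll
  have hAcard : A.ncard = (1 + i) * (Q - 1) := by
    rw [hAu, Set.ncard_union_eq hAd, hUc, hA1c]
    ring
  have hBcard : B.ncard = (q - 1) + j * (Q - 1) := by
    rw [hBu, Set.ncard_union_eq hBd, hB0c, hB1c]
  -- the number of hyperplanes through a point
  obtain ⟨Λ, hΛ⟩ : ∃ Λ, ∀ v ∈ A, {φ | φ ∈ B ∧ φ v = 0}.ncard = Λ := by
    obtain ⟨v0, hv0⟩ : ∃ v0, v0 ∈ U := by
      have : 0 < U.ncard := by
        rw [hUc, hQX]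
        have : 2 * 1 ≤ q * X := Nat.mul_le_mul hq1 (by omega)
        omega
      exact Set.nonempty_of_ncard_ne_zero this.ne'
    refine ⟨{φ | φ ∈ B ∧ φ v0 = 0}.ncard, fun v hv => ?_⟩
    obtain ⟨h, hh, hhv⟩ := hAt v hv v0 (hUA hv0)
    refine Set.ncard_congr (fun φ _ => φ ∘ₗ ((h⁻¹ : V ≃ₗ[K] V) : V →ₗ[K] V)) ?_ ?_ ?_
    · rintro φ ⟨h1, h2⟩
      refine ⟨hBH _ (H.inv_mem hh) φ h1, ?_⟩
      change φ (h.symm v0) = 0
      rw [← hhv, LinearEquiv.symm_apply_apply, h2]
    · intro φ φ' _ _ h1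
      ext w
      have h2 := congrArg (fun f : V →ₗ[K] K => f (h w)) h1
      change φ (h.symm (h w)) = φ' (h.symm (h w)) at h2
      rwa [LinearEquiv.symm_apply_apply] at h2
    · rintro φ ⟨h1, h2⟩
      refine ⟨φ ∘ₗ (h : V →ₗ[K] V), ⟨hBH h hh φ h1, ?_⟩, ?_⟩
      · change φ (h v) = 0
        rw [hhv, h2]
      · ext w
        change φ (h (h.symm w)) = φ w
        rw [LinearEquiv.apply_symm_apply]
  -- the double counts
  have hd1 : A.ncard * Λ = B.ncard * (Q - 1) := by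
    refine double_sum A B (fun v φ => φ v = 0) hΛ fun φ hφ => ?_
    have h1 : {v | v ∈ A ∧ φ v = 0} = {v : V | v ≠ 0 ∧ φ v = 0} := by
      ext v
      exact ⟨fun h => ⟨h.1.1, h.2⟩, fun h => ⟨⟨h.1, φ, hφ, h.2⟩, h.2⟩⟩
    rw [h1, card_ker (hB0 φ hφ), hdim, hQ, Nat.add_sub_cancel]
  have hd2 : U.ncard * Λ = B0.ncard * (Q - 1) + B1.ncard * (X - 1) := by
    refine double_sum' U B0 B1 hBd (fun v φ => φ v = 0) (fun v hv => ?_) (fun φ hφ => ?_) fun φ hφ => ?_
    · rw [← hBu]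
      exact hΛ v (hUA hv)
    · have h1 : {v | v ∈ U ∧ φ v = 0} = U := by
        ext v
        refine ⟨fun h => h.1, fun h => ⟨h, ?_⟩⟩
        rw [he', hφ.2, zero_mul, map_zero, zero_add, h.2, mul_zero]
      rw [h1, hUc]
    · -- the form on `L`
      let ψ : L →ₗ[K] K := φ ∘ₗ (e.symm : L × K →ₗ[K] V) ∘ₗ LinearMap.inl K L K
      have hψ : ∀ a, ψ a = φ (e.symm (a, 0)) := fun a => rfl
      have hψ0 : ψ ≠ 0 := by
        intro h
        apply hℓ
        ext a
        have h1 := congrArg (fun f : L →ₗ[K] K => f ((e' φ).1⁻¹ * a)) h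
        simp only [LinearMap.zero_apply, hψ] at h1
        rw [he', LinearEquiv.apply_symm_apply, mul_zero, add_zero, mul_inv_cancel_left₀ hφ.2] at h1
        rw [h1, LinearMap.zero_apply]
      have h1 : {v | v ∈ U ∧ φ v = 0}.ncard = {a : L | a ≠ 0 ∧ ψ a = 0}.ncard := by
        refine Set.ncard_congr (fun v _ => (e v).1) ?_ ?_ ?_
        · rintro v ⟨⟨hv, h1⟩, h2⟩
          refine ⟨fun h3 => hv ?_, ?_⟩
          · rw [← LinearEquiv.map_eq_zero_iff e]
            exact Prod.ext h3 h1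
          · have h4 : ((e v).1, (0 : K)) = e v := Prod.ext rfl h1.symm
            change ψ (e v).1 = 0
            rw [hψ, h4, LinearEquiv.symm_apply_apply, h2]
        · rintro v w ⟨⟨-, h1⟩, -⟩ ⟨⟨-, h2⟩, -⟩ h3
          exact e.injective (Prod.ext h3 (h1.trans h2.symm))
        · rintro a ⟨h1, h2⟩
          refine ⟨e.symm (a, 0), ⟨⟨?_, by rw [LinearEquiv.apply_symm_apply]⟩, h2⟩, by
            rw [LinearEquiv.apply_symm_apply]⟩
          rw [Ne, LinearEquiv.map_eq_zero_iff]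
          exact fun h3 => h1 (congrArg Prod.fst h3)
      rw [h1, card_ker hψ0, hX]
  have hQ1 : 0 < Q - 1 := by
    rw [hQX]
    have : 2 * 1 ≤ q * X := Nat.mul_le_mul hq1 (by omega)
    omega
  have hΛ' : Λ = (q - 1) + j * (X - 1) := by
    rw [hUc, hB0c, hB1c] at hd2
    have h1 : (Q - 1) * Λ = (Q - 1) * ((q - 1) + j * (X - 1)) := by
      rw [hd2]
      ring
    exact Nat.eq_of_mul_eq_mul_left hQ1 h1
  have hfinal : (1 + i) * ((q - 1) + j * (X - 1)) = (q - 1) + j * (q * X - 1) := by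
    rw [hAcard, hBcard, hΛ'] at hd1
    have h1 : (Q - 1) * ((1 + i) * ((q - 1) + j * (X - 1))) = (Q - 1) * ((q - 1) + j * (Q - 1)) := by
      rw [mul_comm (Q - 1) ((q - 1) + j * (Q - 1)), ← hd1]
      ring
    rw [Nat.eq_of_mul_eq_mul_left hQ1 h1, hQX]
  have hthree : q - 1 ∣ 3 * j := by
    rw [hq]
    refine three_dvd (y := x.dualMap) hω hk (by rw [← hνdef]; exact hx') B1 (fun φ h => ⟨h.2, hcase φ h.1⟩)
      (fun c hc φ h => ⟨hBc c hc φ h.1, by
        rw [map_smul]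
        exact smul_ne_zero hc h.2⟩)
      (fun φ h => ⟨hBx φ h.1, by
        rw [hx']
        exact mul_ne_zero ω.ne_zero h.2⟩) ?_
    rw [hB1c, hQ, hk]
  rw [hXq] at hfinal
  obtain ⟨m, rfl⟩ : ∃ m, q = m + 1 := ⟨q - 1, by omega⟩
  rw [Nat.add_sub_cancel] at hfinal hi hj hAll hthree
  rcases arith_three (by omega) (by omega) hfinal hthree with h | h
  · -- a fixed hyperplane
    right
    refine ⟨φ0, hφ00, fun h' hh => ?_⟩
    have h1 : φ0 ∘ₗ (h' : V →ₗ[K] V) ∈ B := hBH h' hh φ0 hφ0B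
    have h2 : φ0 ∘ₗ (h' : V →ₗ[K] V) ∉ B1 := by
      rw [h, zero_mul, Set.ncard_eq_zero] at hB1c
      rw [hB1c]
      exact Set.notMem_empty _
    have h3 : (e' (φ0 ∘ₗ (h' : V →ₗ[K] V))).1 = 0 := by
      by_contra hcon
      exact h2 ⟨h1, hcon⟩
    refine ⟨(e' (φ0 ∘ₗ (h' : V →ₗ[K] V))).2, fun v => ?_⟩
    have h4 : φ0 (h' v) = (φ0 ∘ₗ (h' : V →ₗ[K] V)) v := rfl
    rw [h4, he', h3, zero_mul, map_zero, zero_add, hφ0']
  · -- a fixed point
    left
    refine ⟨e.symm (0, 1), ?_, fun h' hh => ?_⟩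
    · rw [Ne, LinearEquiv.map_eq_zero_iff]
      intro h1
      exact one_ne_zero (congrArg Prod.snd h1)
    · have hP : e.symm (0, 1) ∉ A := fun h1 => hA0 _ h1 (by rw [LinearEquiv.apply_symm_apply])
      have h1 : h' (e.symm (0, 1)) ∉ A := by
        intro h2
        apply hP
        have h3 := hAH h'⁻¹ (H.inv_mem hh) _ h2
        change h'.symm (h' _) ∈ A at h3
        rwa [LinearEquiv.symm_apply_apply] at h3
      have h2 : (e (h' (e.symm (0, 1)))).1 = 0 := by
        by_contra hcon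
        apply h1
        by_cases h3 : (e (h' (e.symm (0, 1)))).2 = 0
        · refine hUA ⟨?_, h3⟩
          rw [Ne, LinearEquiv.map_eq_zero_iff, LinearEquiv.map_eq_zero_iff]
          intro h4
          exact one_ne_zero (congrArg Prod.snd h4)
        · exact (hAll h _ hcon h3).1
      refine ⟨(e (h' (e.symm (0, 1)))).2, ?_⟩
      apply e.injective
      rw [map_smul, LinearEquiv.apply_symm_apply]
      exact Prod.ext (by
        change _ = (e (h' (e.symm (0, 1)))).2 • (0 : L)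
        rw [h2, smul_zero]) (mul_one _).symm


end side

section her

variable {K : Type} [Field K] [Fintype K] {V : Type} [AddCommGroup V] [Module K V] [Finite V]
  {H : Subgroup (V ≃ₗ[K] V)} {L : Type} [Field L] [Algebra K L] [Finite L]

/-- **Hering's theorem for subgroups of `GL_3(q)`.** -/
theorem her_three (hn : finrank K V = 3) (hT : PTr H) :
    (∀ g : V ≃ₗ[K] V, LinearMap.det (g : V →ₗ[K] V) = 1 → g ∈ H) ∨ ExtO H ∨ SympO H ∨ GamO H := by
  have hmain := Cfsg.Agent.H667.HerFin.action_of_main Cfsg.Agent.H50.Her.main Cfsg.Agent.H50.Her.altSix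
    Cfsg.Agent.H50.Her.altSeven Cfsg.Agent.H50.Her.thirteen (K := K) (V := V) (Fintype.card K) (finrank K V) rfl rfl
    (by omega) (PH H) ?_ ?_ ?_
  · rcases hmain with h | h | h
    · -- `ΓL₁`
      obtain ⟨F, iF, iF', e, hc, h⟩ := h
      refine Or.inr (Or.inr (Or.inr ⟨F, iF, iF', e, hc, fun h' hh => ?_⟩))
      exact h (MulAction.toPermHom (V ≃ₗ[K] V) V h') ⟨h', hh, rfl⟩
    · obtain ⟨F, iF, iF', iM, φ, b, hφ, h2, hc, hb, hsem, hcase⟩ := h
      have hb0 : b ≠ 0 := by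
        rintro rfl
        rw [mul_zero] at hb
        omega
      by_cases hb1 : b = 1
      · subst hb1
        rw [pow_one] at hc
        have hbij : Function.Bijective φ :=
          (Fintype.bijective_iff_injective_and_card φ).2 ⟨φ.injective, hc.symm⟩
        let Φ : K ≃+* F := RingEquiv.ofBijective φ hbij
        have hΦ : ∀ (c : K) (v : V), c • v = Φ c • v := hφ
        have hΦ' : ∀ (c : F) (v : V), Φ.symm c • v = c • v := fun c v => by
          rw [hΦ, RingEquiv.apply_symm_apply]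
        have hsymp : ∀ f : LinearMap.BilinForm F V, f.IsAlt → f.Nondegenerate →
            (∀ h ∈ PH H, ∀ σ : F ≃+* F, (∀ (c : F) (v : V), h (c • v) = σ c • h v) →
              ∃ μ : F, ∀ u v, f (h u) (h v) = μ * σ (f u v)) → SympO H := by
          intro f ha hn' hs
          refine ⟨LinearMap.mk₂ K (fun u v => Φ.symm (f u v)) (fun u u' v => by simp) (fun c u v => ?_)
            (fun u v v' => by simp) (fun c u v => ?_), fun v => ?_, fun u hu => ?_, fun h hh => ?_⟩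
          · rw [hΦ, map_smul, LinearMap.smul_apply, smul_eq_mul, map_mul, RingEquiv.symm_apply_apply, smul_eq_mul]
          · rw [hΦ, map_smul, smul_eq_mul, map_mul, RingEquiv.symm_apply_apply, smul_eq_mul]
          · rw [LinearMap.mk₂_apply, ha v, map_zero]
          · refine hn'.1 u fun v => ?_
            have := hu v
            rw [LinearMap.mk₂_apply] at this
            rwa [map_eq_zero_iff _ Φ.symm.injective] at this
          · obtain ⟨μ, hμ⟩ := hs (MulAction.toPermHom (V ≃ₗ[K] V) V h) ⟨h, hh, rfl⟩ (RingEquiv.refl F) (by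
              intro c v
              change h (c • v) = c • h v
              rw [← hΦ', map_smul, hΦ'])
            refine ⟨Φ.symm μ, fun u v => ?_⟩
            rw [LinearMap.mk₂_apply, LinearMap.mk₂_apply, ← map_mul]
            exact congrArg _ (hμ u v)
        rcases hcase with h1 | ⟨f, ha, hn', -, hs⟩ | ⟨-, -, -, f, ha, hn', hs, -⟩
        · left
          intro g hg
          have hlin : ∀ (c : F) (v : V), g (c • v) = c • g v := fun c v => by rw [← hΦ', map_smul, hΦ']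
          let g' : V ≃ₗ[F] V := { g with map_smul' := hlin }
          obtain ⟨h, hh, e⟩ := h1 g' (by
            apply Units.ext
            rw [LinearEquiv.coe_det, det_transport Φ hΦ (g : V →ₗ[K] V) (g' : V →ₗ[F] V) (fun v => rfl), hg, map_one]
            rfl)
          obtain ⟨g₁, hg₁, e'⟩ := mem_PH.1 hh
          have : g₁ = g := by
            ext v
            rw [← e', e]
            rfl
          rwa [← this]
        · exact Or.inr (Or.inr (Or.inl (hsymp f ha hn' hs)))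
        · exact Or.inr (Or.inr (Or.inl (hsymp f ha hn' hs)))
      · refine Or.inr (Or.inl ⟨F, iF, iF', iM, φ, b, hφ, by omega, hc, ⟨_, by rw [mul_comm]; exact hb.symm⟩,
          fun h hh => ?_⟩)
        exact hsem (MulAction.toPermHom (V ≃ₗ[K] V) V h) ⟨h, hh, rfl⟩
    · rcases h with ⟨h, -⟩ | ⟨h, -⟩ | ⟨h, -⟩ | ⟨h, -⟩ | ⟨h, -⟩ | ⟨h, -⟩ <;> omega
  · intro h hh v w
    obtain ⟨g, hg, e⟩ := mem_PH.1 hh
    rw [e, e, e, map_add]
  · intro h hh
    obtain ⟨g, hg, e⟩ := mem_PH.1 hh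
    exact ⟨RingEquiv.refl K, fun c v => by rw [e, e, map_smul]; rfl⟩
  · intro v w hv hw
    obtain ⟨g, hg, c, e⟩ := hT v w hv hw
    exact ⟨MulAction.toPermHom (V ≃ₗ[K] V) V g, ⟨g, hg, rfl⟩, c, e⟩


/-- **Overgroups of an element of type `(2, 1)`, `q ≠ 2, 4`** -/
theorem over_k_three (hn : finrank K V = 3) (hq2 : Nat.card K ≠ 2) (hq4 : Nat.card K ≠ 4) {x : V ≃ₗ[K] V}
    (hx : x ∈ H) {ω : Lˣ} (hω : IsGen ω) (ht : TwoT L K x ω (nm ω)⁻¹) :
    (∀ g : V ≃ₗ[K] V, LinearMap.det (g : V →ₗ[K] V) = 1 → g ∈ H) ∨ Red H := by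
  have hfin : Module.Finite K V := Module.Finite.of_finite
  have hfinL : Module.Finite K L := Module.Finite.of_finite
  have hdim : finrank K V = finrank K L + 1 := by
    obtain ⟨e, -⟩ := ht
    rw [e.finrank_eq, Module.finrank_prod, finrank_self]
  have hL2 : finrank K L = 2 := by omega
  have hnt : Nontrivial V := Module.nontrivial_of_finrank_pos (R := K) (by omega)
  have hq1 : 2 ≤ Nat.card K := one_lt_q
  have hk1 : ∀ c : Kˣ, c ^ (Nat.card K - 1) = 1 := by
    intro c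
    rw [← card_units_base]
    exact pow_card_eq_one'
  have hbig : ω ^ ((Nat.card K - 1) * 3) ≠ 1 := by
    intro h1
    have h2 := hω.dvd_of_pow (K := K) h1
    rw [hL2] at h2
    obtain ⟨m, hm⟩ : ∃ m, Nat.card K = m + 1 := ⟨Nat.card K - 1, by omega⟩
    rw [hm, Nat.add_sub_cancel] at h2
    have h3 : (m + 1) ^ 2 - 1 = m * (m + 2) := by
      have : (m + 1) ^ 2 = m * (m + 2) + 1 := by ring
      omega
    rw [h3] at h2
    have h4 := Nat.le_of_dvd (by norm_num) (Nat.dvd_of_mul_dvd_mul_left (by omega) h2)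
    omega
  rcases kside_three hx hω ht hL2 hq4 with h | h | h
  rotate_left
  · exact Or.inr (Or.inl h)
  · exact Or.inr (Or.inr h)
  rcases her_three hn h with h | h | h | h
  · exact Or.inl h
  · exfalso
    obtain ⟨b, hb2, hbn, hE⟩ := h.exists
    rw [hn] at hbn
    have hb3 : b = 3 := by
      rcases (Nat.dvd_prime Nat.prime_three).1 hbn with h1 | h1
      · omega
      · exact h1
    subst hb3
    have h1 : 3 ∣ finrank K K := ext_dvd_pow hE hx ht (i := Nat.card K - 1) hbig (hk1 _)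
    rw [finrank_self] at h1
    omega
  · exact absurd (symp_two h hx hω ht (by omega)) id
  · exfalso
    have h1 : TwoT L K (x ^ (Nat.card K - 1)) (ω ^ (Nat.card K - 1)) 1 := by
      have := ht.pow (Nat.card K - 1)
      rwa [hk1] at this
    obtain ⟨t, h2, h3⟩ := gam_two h (H.pow_mem hx _) h1 (fun h2 => hbig (by rw [pow_mul, h2, one_pow]))
    rw [finrank_self, one_mul, hn] at h2
    rw [← h2, ← pow_mul] at h3
    exact hbig h3

end her

theorem over_three {K : Type} [Field K] [Fintype K] (hq2 : Nat.card K ≠ 2) (hq4 : Nat.card K ≠ 4) : Over 3 K := by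
  intro L _ _ _ H x ω hx hω ht _
  exact over_k_three (by simp) hq2 hq4 hx hω ht

/-- **The row `PSL_3(q)`, `q ≠ 2, 4`.** -/
theorem spr_psl_three {K : Type} [Field K] [Fintype K] [IsSimpleGroup (Matrix.ProjectiveSpecialLinearGroup (Fin 3) K)]
    (hna : ∃ x y : Matrix.ProjectiveSpecialLinearGroup (Fin 3) K, x * y ≠ y * x) (hq2 : Nat.card K ≠ 2)
    (hq4 : Nat.card K ≠ 4) : Cfsg.Agent.H424.Spr.Spr (Matrix.ProjectiveSpecialLinearGroup (Fin 3) K) :=
  spr_psl_of le_rfl hna (over_three hq2 hq4)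

end Cfsg.Agent.H59.SprPsl
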