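import Mathlib
import Cfsg.Agent.H59.Spr.Three
import Cfsg.Agent.Schreier.ClassPSL

/-!
# Subgroups of `SL_3(q)` containing an element of type `(2, 1)` and normalised by a collineation or a correlation (helper59)

`P = ⟨v₀⟩`, `ℓ` the fixed point and line of `x ∈ H`.
* `ptr_of_coll` : if a collineation `T` normalises `H` and `T P ∈ ℓ` then `H` is transitive on the points;
* `ptr_of_corr` : if a correlation `β` normalises `H` and `P` is absolute then `H` is transitive on the points;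
* `top_of_trans` : then `H ≥ SL_3(q)`, `q ≠ 2`.
-/

set_option autoImplicit false
set_option linter.unusedSectionVars false

namespace Cfsg.Agent.H59.SprPsl

open Module Cfsg.Agent.H184.Cov

section geo

variable {K : Type} [Field K] [Finite K] {V : Type} [AddCommGroup V] [Module K V] [Finite V]
  {L : Type} [Field L] [Algebra K L] [Finite L]

/-- coordinates adapted to a point and a hyperplane -/
theorem exists_adapted {φ : V →ₗ[K] K} {v₀ : V} (hφ : φ v₀ = 1) (hd : finrank K V = finrank K L + 1) :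
    ∃ e : V ≃ₗ[K] L × K, e v₀ = (0, 1) ∧ ∀ v, (e v).2 = φ v := by
  have hfin : Module.Finite K V := Module.Finite.of_finite
  have hfinL : Module.Finite K L := Module.Finite.of_finite
  have h1 : finrank K (LinearMap.ker φ) = finrank K L := by
    have h2 := LinearMap.finrank_range_add_finrank_ker φ
    have h3 : finrank K (LinearMap.range φ) = 1 := by
      rw [LinearMap.range_eq_top.2 (LinearMap.surjective (by
        rintro rfl
        exact zero_ne_one hφ)), finrank_top, finrank_self]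
    omega
  obtain ⟨e1⟩ : Nonempty (LinearMap.ker φ ≃ₗ[K] L) := ⟨LinearEquiv.ofFinrankEq _ _ h1⟩
  have hp : ∀ v, v - φ v • v₀ ∈ LinearMap.ker φ := by
    intro v
    rw [LinearMap.mem_ker, map_sub, map_smul, hφ, smul_eq_mul, mul_one, sub_self]
  let e : V ≃ₗ[K] L × K :=
    { toFun := fun v => (e1 ⟨v - φ v • v₀, hp v⟩, φ v)
      map_add' := fun u v => by
        refine Prod.ext ?_ (map_add φ u v)
        change e1 _ = e1 _ + e1 _
        rw [← map_add]
        congr 1
        apply Subtype.ext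
        change u + v - φ (u + v) • v₀ = (u - φ u • v₀) + (v - φ v • v₀)
        rw [map_add, add_smul]
        abel
      map_smul' := fun c v => by
        refine Prod.ext ?_ (map_smul φ c v)
        change e1 _ = c • e1 _
        rw [← map_smul]
        congr 1
        apply Subtype.ext
        change c • v - φ (c • v) • v₀ = c • (v - φ v • v₀)
        rw [map_smul, smul_eq_mul, smul_sub, mul_smul]
      invFun := fun p => (e1.symm p.1 : V) + p.2 • v₀
      left_inv := fun v => by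
        change (e1.symm (e1 ⟨v - φ v • v₀, hp v⟩) : V) + φ v • v₀ = v
        rw [e1.symm_apply_apply, sub_add_cancel]
      right_inv := fun p => by
        have h2 : φ ((e1.symm p.1 : V) + p.2 • v₀) = p.2 := by
          rw [map_add, map_smul, hφ, smul_eq_mul, mul_one, LinearMap.mem_ker.1 (e1.symm p.1).2, zero_add]
        refine Prod.ext ?_ h2
        change e1 ⟨(e1.symm p.1 : V) + p.2 • v₀ - φ ((e1.symm p.1 : V) + p.2 • v₀) • v₀, _⟩ = p.1
        rw [← LinearEquiv.eq_symm_apply]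
        apply Subtype.ext
        change (e1.symm p.1 : V) + p.2 • v₀ - φ ((e1.symm p.1 : V) + p.2 • v₀) • v₀ = _
        rw [h2, add_sub_cancel_right] }
  refine ⟨e, ?_, fun v => rfl⟩
  refine Prod.ext ?_ hφ
  change e1 ⟨v₀ - φ v₀ • v₀, _⟩ = 0
  rw [LinearEquiv.map_eq_zero_iff]
  apply Subtype.ext
  change v₀ - φ v₀ • v₀ = 0
  rw [hφ, one_smul, sub_self]

theorem exists_elt {φ : V →ₗ[K] K} {v₀ : V} (hφ : φ v₀ = 1) (hd : finrank K V = finrank K L + 1) (ω : Lˣ) :
    ∃ (e : V ≃ₗ[K] L × K) (x : V ≃ₗ[K] V), e v₀ = (0, 1) ∧ (∀ v, (e v).2 = φ v) ∧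
      (∀ v, e (x v) = ((ω : L) * (e v).1, (((nm ω)⁻¹ : Kˣ) : K) * (e v).2)) ∧
      LinearMap.det (x : V →ₗ[K] V) = 1 := by
  have hV : Module.Finite K V := Module.Finite.of_finite
  have hL : Module.Finite K L := Module.Finite.of_finite
  obtain ⟨e, he1, he2⟩ := exists_adapted (L := L) hφ hd
  refine ⟨e, e.trans (((mE L ω).prodCongr (mE K (nm ω)⁻¹)).trans e.symm), he1, he2, fun v => ?_, ?_⟩
  · simp [mE_apply, LinearEquiv.prodCongr_apply]
  · have h1 : ((e.trans (((mE L ω).prodCongr (mE K (nm ω)⁻¹)).trans e.symm) : V ≃ₗ[K] V) : V →ₗ[K] V) =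
        (e.symm : L × K →ₗ[K] V) ∘ₗ (LinearMap.prodMap (mE (K := K) L ω : L →ₗ[K] L)
          (mE (K := K) K (nm ω)⁻¹ : K →ₗ[K] K)) ∘ₗ (e.symm.symm : V →ₗ[K] L × K) := rfl
    rw [h1, LinearMap.det_conj, LinearMap.det_prodMap, det_mE, det_mE]
    have h2 : Algebra.norm K ((((nm ω)⁻¹ : Kˣ) : K)) = (((nm ω)⁻¹ : Kˣ) : K) := by rw [Algebra.norm_self]; rfl
    rw [h2]
    exact Units.mul_inv (nm ω : Kˣ)

/-- `v` is in the orbit of `v₀` up to scalars -/
def Orb (H : Subgroup (V ≃ₗ[K] V)) (v₀ v : V) : Prop := ∃ h ∈ H, ∃ c : K, c ≠ 0 ∧ h v₀ = c • v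

variable {H : Subgroup (V ≃ₗ[K] V)} {x : V ≃ₗ[K] V} {ω : Lˣ} {ν : Kˣ} {e : V ≃ₗ[K] L × K} {v₀ : V}

theorem exists_rot (hω : IsGen ω) {a b : L} (ha : a ≠ 0) (hb : b ≠ 0) : ∃ i : ℕ, ((ω ^ i : Lˣ) : L) * a = b := by
  obtain ⟨i, hi⟩ := hω.exists_pow (Units.mk0 b hb / Units.mk0 a ha)
  refine ⟨i, ?_⟩
  rw [hi, Units.val_div_eq_div_val, Units.val_mk0, Units.val_mk0, div_mul_cancel₀ _ ha]

/-- a line through `v₀` in the orbit: everything is in the orbit -/
theorem ptr_of_line (hx : x ∈ H) (hω : IsGen ω) (hv : e v₀ = (0, 1))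
    (he : ∀ v, e (x v) = ((ω : L) * (e v).1, (ν : K) * (e v).2)) {w₀ : V} (hw : (e w₀).1 ≠ 0)
    (hD : ∀ c : K, Orb H v₀ (w₀ + c • v₀)) : ∀ v w : V, v ≠ 0 → w ≠ 0 → ∃ h ∈ H, ∃ c : K, h v = c • w := by
  have hall : ∀ v, v ≠ 0 → Orb H v₀ v := by
    intro v hv0
    by_cases h1 : (e v).1 = 0
    · have h2 : (e v).2 ≠ 0 := by
        intro h2
        apply hv0
        rw [← LinearEquiv.map_eq_zero_iff e]
        exact Prod.ext h1 h2
      refine ⟨1, H.one_mem, ((e v).2)⁻¹, inv_ne_zero h2, ?_⟩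
      apply e.injective
      change e v₀ = e (((e v).2)⁻¹ • v)
      rw [hv, map_smul]
      refine Prod.ext ?_ ?_
      · change (0 : L) = ((e v).2)⁻¹ • (e v).1
        rw [h1, smul_zero]
      · change (1 : K) = ((e v).2)⁻¹ * (e v).2
        rw [inv_mul_cancel₀ h2]
    · obtain ⟨i, hi⟩ := exists_rot hω hw h1
      obtain ⟨c', hc'⟩ : ∃ c' : K, c' = ((ν ^ i : Kˣ) : K)⁻¹ * (e v).2 - (e w₀).2 := ⟨_, rfl⟩
      obtain ⟨h, hh, c, hc, hhc⟩ := hD c'
      refine ⟨x ^ i * h, H.mul_mem (H.pow_mem hx i) hh, c, hc, ?_⟩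
      change (x ^ i) (h v₀) = c • v
      rw [hhc, map_smul]
      congr 1
      apply e.injective
      rw [twoT_pow he, map_add, map_smul, hv]
      refine Prod.ext ?_ ?_
      · change ((ω ^ i : Lˣ) : L) * ((e w₀).1 + c' • (0 : L)) = (e v).1
        rw [smul_zero, add_zero, hi]
      · change ((ν ^ i : Kˣ) : K) * ((e w₀).2 + c' * 1) = (e v).2
        rw [hc', mul_one, add_sub_cancel, mul_inv_cancel_left₀ (Units.ne_zero _)]
  intro v w hv0 hw0
  obtain ⟨h1, hh1, c1, hc1, e1⟩ := hall v hv0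
  obtain ⟨h2, hh2, c2, hc2, e2⟩ := hall w hw0
  refine ⟨h2 * h1⁻¹, H.mul_mem hh2 (H.inv_mem hh1), c1⁻¹ * c2, ?_⟩
  have h3 : h1⁻¹ v = c1⁻¹ • v₀ := by
    change h1.symm v = c1⁻¹ • v₀
    rw [LinearEquiv.symm_apply_eq, map_smul, e1, smul_smul, inv_mul_cancel₀ hc1, one_smul]
  change h2 (h1⁻¹ v) = _
  rw [h3, map_smul, e2, smul_smul]

/-- **collineations** -/
theorem ptr_of_coll (hx : x ∈ H) (hω : IsGen ω) (hωK : ∀ c : K, (ω : L) ≠ algebraMap K L c) (hv : e v₀ = (0, 1))
    (he : ∀ v, e (x v) = ((ω : L) * (e v).1, (ν : K) * (e v).2)) {T : V → V} {σ : K ≃+* K}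
    (hTa : ∀ u v, T (u + v) = T u + T v) (hTs : ∀ (c : K) v, T (c • v) = σ c • T v) (hTb : Function.Bijective T)
    (hTH : ∀ h' ∈ H, ∃ h ∈ H, ∀ v, h' (T v) = T (h v)) (h0 : (e (T v₀)).2 = 0) :
    ∀ v w : V, v ≠ 0 → w ≠ 0 → ∃ h ∈ H, ∃ c : K, h v = c • w := by
  have hT0 : T 0 = 0 := by
    have := hTs 0 0
    rwa [zero_smul, map_zero, zero_smul] at this
  have hv0 : v₀ ≠ 0 := by
    rintro rfl
    rw [map_zero] at hv
    exact zero_ne_one (congrArg Prod.snd hv)
  have ht : (e (T v₀)).1 ≠ 0 := by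
    intro h1
    apply hv0
    apply hTb.1
    rw [hT0, ← LinearEquiv.map_eq_zero_iff e]
    exact Prod.ext h1 h0
  obtain ⟨w₀, hw₀⟩ := hTb.2 (x (T v₀))
  have hw1 : (e w₀).1 ≠ 0 := by
    intro h1
    have h2 : w₀ = (e w₀).2 • v₀ := by
      apply e.injective
      rw [map_smul, hv]
      refine Prod.ext ?_ ?_
      · change (e w₀).1 = (e w₀).2 • (0 : L)
        rw [smul_zero, h1]
      · change (e w₀).2 = (e w₀).2 * 1
        rw [mul_one]
    rw [h2, hTs] at hw₀
    have h3 := congrArg (fun v => (e v).1) hw₀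
    simp only [map_smul, he] at h3
    change σ (e w₀).2 • (e (T v₀)).1 = (ω : L) * (e (T v₀)).1 at h3
    rw [Algebra.smul_def] at h3
    exact hωK _ (mul_right_cancel₀ ht h3).symm
  refine ptr_of_line hx hω hv he hw1 fun c => ?_
  have h1 : (ω : L) * (e (T v₀)).1 + σ c • (e (T v₀)).1 ≠ 0 := by
    rw [Algebra.smul_def, ← add_mul]
    refine mul_ne_zero ?_ ht
    intro h1
    refine hωK (-(σ c)) ?_
    rw [map_neg]
    exact eq_neg_of_add_eq_zero_left h1
  obtain ⟨i, hi⟩ := exists_rot hω ht h1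
  obtain ⟨h, hh, hhT⟩ := hTH (x ^ i) (H.pow_mem hx i)
  refine ⟨h, hh, 1, one_ne_zero, ?_⟩
  rw [one_smul]
  apply hTb.1
  rw [← hhT, hTa, hTs, hw₀]
  apply e.injective
  rw [twoT_pow he, map_add, map_smul, he, h0, hi, mul_zero, mul_zero]
  refine Prod.ext rfl ?_
  change (0 : K) = 0 + σ c • (e (T v₀)).2
  rw [h0, smul_zero, add_zero]

theorem exists_ker (hL : finrank K L = 2) (e : V ≃ₗ[K] L × K) (ψ : V →ₗ[K] K) :
    ∃ a : L, a ≠ 0 ∧ ψ (e.symm (a, 0)) = 0 := by
  have hfinL : Module.Finite K L := Module.Finite.of_finite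
  let χ : L →ₗ[K] K := ψ ∘ₗ (e.symm : L × K →ₗ[K] V) ∘ₗ LinearMap.inl K L K
  have h1 : finrank K K < finrank K L := by rw [finrank_self]; omega
  obtain ⟨a, h4, h5⟩ := (Submodule.ne_bot_iff _).1 (LinearMap.ker_ne_bot_of_finrank_lt (f := χ) h1)
  exact ⟨a, h5, h4⟩

/-- `1, ω` span `L` -/
theorem exists_coord (hL : finrank K L = 2) (hωK : ∀ c : K, (ω : L) ≠ algebraMap K L c) (l : L) :
    ∃ p r : K, l = algebraMap K L p + algebraMap K L r * ω := by
  have hfinL : Module.Finite K L := Module.Finite.of_finite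
  have hli : LinearIndependent K ![(1 : L), (ω : L)] := by
    rw [LinearIndependent.pair_iff]
    intro s t hst
    have ht : t = 0 := by
      by_contra ht
      refine hωK (-(s / t)) ?_
      rw [Algebra.smul_def, Algebra.smul_def, mul_one] at hst
      have ht' : algebraMap K L t ≠ 0 := by rwa [Ne, map_eq_zero]
      apply mul_left_cancel₀ ht'
      rw [← map_mul, mul_neg, mul_div_cancel₀ _ ht, map_neg]
      exact eq_neg_of_add_eq_zero_right hst
    refine ⟨?_, ht⟩
    rw [ht, zero_smul, add_zero, Algebra.smul_def, mul_one, map_eq_zero] at hst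
    exact hst
  have htop := hli.span_eq_top_of_card_eq_finrank' (by rw [hL]; rfl)
  have hl : l ∈ Submodule.span K (Set.range ![(1 : L), (ω : L)]) := by rw [htop]; exact Submodule.mem_top
  rw [Matrix.range_cons, Matrix.range_cons, Matrix.range_empty, Set.union_empty, Set.singleton_union,
    Submodule.mem_span_pair] at hl
  obtain ⟨p, r, h⟩ := hl
  refine ⟨p, r, ?_⟩
  rw [← h, Algebra.smul_def, Algebra.smul_def, mul_one]

/-- **correlations** -/
theorem ptr_of_corr (hL : finrank K L = 2) (hx : x ∈ H) (hω : IsGen ω) (hωK : ∀ c : K, (ω : L) ≠ algebraMap K L c)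
    (hv : e v₀ = (0, 1)) (he : ∀ v, e (x v) = ((ω : L) * (e v).1, (ν : K) * (e v).2)) {β : V → V → K} {σ : K ≃+* K}
    (ha1 : ∀ u u' v, β (u + u') v = β u v + β u' v) (hs1 : ∀ (c : K) u v, β (c • u) v = c * β u v)
    (ha2 : ∀ u v v', β u (v + v') = β u v + β u v') (hs2 : ∀ (c : K) u v, β u (c • v) = σ c * β u v)
    (hnd : ∀ v, (∀ u, β u v = 0) → v = 0)
    (hβH : ∀ h' ∈ H, ∃ h ∈ H, ∀ u v, β (h' u) (h v) = β u v) (h0 : β v₀ v₀ = 0) :
    ∀ v w : V, v ≠ 0 → w ≠ 0 → ∃ h ∈ H, ∃ c : K, h v = c • w := by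
  have hv0 : v₀ ≠ 0 := by
    rintro rfl
    rw [map_zero] at hv
    exact zero_ne_one (congrArg Prod.snd hv)
  -- the linear forms
  let f1 : V → (V →ₗ[K] K) := fun v =>
    { toFun := fun u => β u v
      map_add' := fun u u' => ha1 u u' v
      map_smul' := fun c u => hs1 c u v }
  let f2 : V → (V →ₗ[K] K) := fun u =>
    { toFun := fun v => σ.symm (β u v)
      map_add' := fun v v' => by rw [ha2, map_add]
      map_smul' := fun c v => by
        rw [hs2, map_mul, RingEquiv.symm_apply_apply]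
        rfl }
  have hxv : ∀ i : ℕ, (x ^ i) v₀ = ((ν ^ i : Kˣ) : K) • v₀ := by
    intro i
    apply e.injective
    rw [twoT_pow he, map_smul, hv]
    refine Prod.ext ?_ rfl
    change ((ω ^ i : Lˣ) : L) * 0 = ((ν ^ i : Kˣ) : K) • (0 : L)
    rw [mul_zero, smul_zero]
  -- `w₀`
  obtain ⟨a, ha, hav⟩ := exists_ker hL e (f2 v₀)
  have hw0 : β v₀ (e.symm (a, 0)) = 0 := (map_eq_zero_iff σ.symm σ.symm.injective).1 hav
  refine ptr_of_line hx hω hv he (w₀ := e.symm (a, 0)) (by rwa [e.apply_symm_apply]) fun c => ?_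
  obtain ⟨v, hvdef⟩ : ∃ v, v = e.symm (a, 0) + c • v₀ := ⟨_, rfl⟩
  rw [← hvdef]
  have hvv : β v₀ v = 0 := by rw [hvdef, ha2, hs2, hw0, h0, mul_zero, add_zero]
  have hvne : v ≠ 0 := by
    intro h1
    rw [hvdef] at h1
    have h2 := congrArg (fun w => (e w).1) h1
    simp only [map_add, map_smul, e.apply_symm_apply, hv, map_zero] at h2
    change a + c • (0 : L) = 0 at h2
    rw [smul_zero, add_zero] at h2
    exact ha h2
  -- the points of the lines `C(v₀)`, `C(v)` on `ℓ`
  obtain ⟨b0, hb0, hb0v⟩ := exists_ker hL e (f1 v₀)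
  obtain ⟨b, hb, hbv⟩ := exists_ker hL e (f1 v)
  change β (e.symm (b0, 0)) v₀ = 0 at hb0v
  change β (e.symm (b, 0)) v = 0 at hbv
  obtain ⟨i, hi⟩ := exists_rot hω hb0 hb
  have hxu : (x ^ i) (e.symm (b0, 0)) = e.symm (b, 0) := by
    apply e.injective
    rw [twoT_pow he, e.apply_symm_apply, e.apply_symm_apply, hi, mul_zero]
  obtain ⟨h, hh, hhβ⟩ := hβH (x ^ i) (H.pow_mem hx i)
  have h1 : β (e.symm (b, 0)) (h v₀) = 0 := by rw [← hxu, hhβ, hb0v]
  have h2 : β v₀ (h v₀) = 0 := by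
    have h3 := hhβ v₀ v₀
    rw [hxv, hs1, h0] at h3
    exact (mul_eq_zero.1 h3).resolve_left (Units.ne_zero _)
  -- a third vector
  have hspan : ∀ w : V, ∃ p r s : K, w = p • e.symm (b, 0) + r • e.symm ((ω : L) * b, 0) + s • v₀ := by
    intro w
    obtain ⟨p, r, hpr⟩ := exists_coord hL hωK ((e w).1 / b)
    refine ⟨p, r, (e w).2, ?_⟩
    apply e.injective
    rw [map_add, map_add, map_smul, map_smul, map_smul, e.apply_symm_apply, e.apply_symm_apply, hv]
    refine Prod.ext ?_ ?_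
    · change (e w).1 = p • b + r • ((ω : L) * b) + (e w).2 • (0 : L)
      rw [smul_zero, add_zero, Algebra.smul_def, Algebra.smul_def, ← mul_assoc, ← add_mul, ← hpr, div_mul_cancel₀ _ hb]
    · change (e w).2 = p • (0 : K) + r • (0 : K) + (e w).2 * 1
      rw [smul_zero, smul_zero, zero_add, zero_add, mul_one]
  have hr : β (e.symm ((ω : L) * b, 0)) v ≠ 0 := by
    intro hr
    apply hvne
    refine hnd v fun u => ?_
    obtain ⟨p, r, s, hu⟩ := hspan u
    rw [hu, ha1, ha1, hs1, hs1, hs1, hbv, hr, hvv, mul_zero, mul_zero, mul_zero, add_zero, add_zero]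
  obtain ⟨t, ht⟩ : ∃ t : K, t = σ.symm (β (e.symm ((ω : L) * b, 0)) (h v₀) / β (e.symm ((ω : L) * b, 0)) v) := ⟨_, rfl⟩
  have hfin : h v₀ = t • v := by
    rw [← sub_eq_zero]
    refine hnd _ fun u => ?_
    have hsub : ∀ u, β u (h v₀ - t • v) = β u (h v₀) - σ t * β u v := by
      intro u
      have h3 := ha2 u (h v₀ - t • v) (t • v)
      rw [sub_add_cancel, hs2] at h3
      rw [h3, add_sub_cancel_right]
    obtain ⟨p, r, s, hu⟩ := hspan u
    rw [hu, ha1, ha1, hs1, hs1, hs1, hsub, hsub, hsub, h1, h2, hbv, hvv, ht, RingEquiv.apply_symm_apply,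
      div_mul_cancel₀ _ hr]
    ring
  have ht0 : t ≠ 0 := by
    rintro rfl
    rw [zero_smul, LinearEquiv.map_eq_zero_iff] at hfin
    exact hv0 hfin
  exact ⟨h, hh, t, ht0, hfin⟩

/-- **absolute points** -/
theorem exists_abs (h4 : Nat.card K = 4) (hV : 2 ≤ finrank K V) {β : V → V → K} {σ : K ≃+* K}
    (ha1 : ∀ u u' v, β (u + u') v = β u v + β u' v) (hs1 : ∀ (c : K) u v, β (c • u) v = c * β u v)
    (ha2 : ∀ u v v', β u (v + v') = β u v + β u v') (hs2 : ∀ (c : K) u v, β u (c • v) = σ c * β u v)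
    (hrefl : ∀ u v, β u v = 0 → β v u = 0) : ∃ v, v ≠ 0 ∧ β v v = 0 := by
  classical
  have hfin : Module.Finite K V := Module.Finite.of_finite
  have : Fintype K := Fintype.ofFinite K
  have h4' : Fintype.card K = 4 := by rw [← Nat.card_eq_fintype_card, h4]
  have hnt : Nontrivial V := Module.nontrivial_of_finrank_pos (R := K) (by omega)
  have h2 : (2 : K) = 0 := by
    have h5 : ((Fintype.card K : ℕ) : K) = 0 := Nat.cast_card_eq_zero K
    rw [h4'] at h5
    have h6 : (2 : K) * 2 = 0 := by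
      rw [← h5]
      norm_num
    exact mul_self_eq_zero.1 h6
  obtain ⟨u, hu⟩ := exists_ne (0 : V)
  by_cases hb : β u u = 0
  · exact ⟨u, hu, hb⟩
  let f1 : V →ₗ[K] K :=
    { toFun := fun w => β w u
      map_add' := fun w w' => ha1 w w' u
      map_smul' := fun c w => hs1 c w u }
  obtain ⟨u1, h5, hu1⟩ := (Submodule.ne_bot_iff _).1 (LinearMap.ker_ne_bot_of_finrank_lt (f := f1) (by
    rw [finrank_self]
    omega))
  have h6 : β u1 u = 0 := h5
  have h7 : β u u1 = 0 := hrefl _ _ h6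
  by_cases hb1 : β u1 u1 = 0
  · exact ⟨u1, hu1, hb1⟩
  obtain ⟨c, hc⟩ : ∃ c : K, c = β u u / β u1 u1 := ⟨_, rfl⟩
  have hcb : c * β u1 u1 = β u u := by rw [hc, div_mul_cancel₀ _ hb1]
  have hc0 : c ≠ 0 := by rw [hc]; exact div_ne_zero hb hb1
  have hβ : ∀ p r : K, β (u + p • u1) (u + r • u1) = β u u + p * σ r * β u1 u1 := by
    intro p r
    rw [ha1, ha2, ha2, hs1, hs1, hs2, hs2, h6, h7]
    ring
  have hss : ∀ z : K, z + z = 0 := fun z => by rw [← two_mul, h2, zero_mul]
  have hσc : σ c = c := by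
    have h8 := hβ c 1
    rw [map_one, mul_one, hcb, hss] at h8
    have h9 := hrefl _ _ h8
    rw [hβ, one_mul, ← hcb, ← add_mul] at h9
    have h10 := (mul_eq_zero.1 h9).resolve_right hb1
    have h11 : c + c = c + σ c := by rw [hss, h10]
    exact (add_left_cancel h11).symm
  obtain ⟨d, hd⟩ : ∃ d : K, d * σ d = c := by
    by_cases hσ : ∀ z, σ z = z
    · have h8 : IsSquare c := by
        refine FiniteField.isSquare_of_char_two ?_ c
        have : CharP K 2 := CharTwo.of_one_ne_zero_of_two_eq_zero one_ne_zero h2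
        exact ringChar.eq K 2
      obtain ⟨d, hd⟩ := h8
      exact ⟨d, by rw [hσ, ← hd]⟩
    · refine ⟨1, ?_⟩
      rw [map_one, one_mul]
      by_contra hc1
      apply hσ
      have h8 : (Finset.univ : Finset K) = {0, 1, c, c + 1} := by
        symm
        apply Finset.eq_univ_of_card
        rw [h4', Finset.card_insert_of_notMem, Finset.card_insert_of_notMem, Finset.card_insert_of_notMem,
          Finset.card_singleton]
        · rw [Finset.mem_singleton]
          intro h9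
          exact one_ne_zero (left_eq_add.1 h9)
        · rw [Finset.mem_insert, Finset.mem_singleton, not_or]
          refine ⟨hc1, fun h9 => hc0 ?_⟩
          exact right_eq_add.1 h9
        · rw [Finset.mem_insert, Finset.mem_insert, Finset.mem_singleton, not_or, not_or]
          refine ⟨zero_ne_one, hc0.symm, fun h9 => hc1 ?_⟩
          have h10 : c + 1 = 1 + 1 := by rw [← h9, hss]
          exact (add_right_cancel h10).symm
      intro z
      have hz : z ∈ (Finset.univ : Finset K) := Finset.mem_univ z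
      rw [h8, Finset.mem_insert, Finset.mem_insert, Finset.mem_insert, Finset.mem_singleton] at hz
      rcases hz with rfl | rfl | rfl | rfl
      · exact map_zero σ
      · exact map_one σ
      · exact hσc
      · rw [map_add, map_one, hσc]
  refine ⟨u + d • u1, ?_, ?_⟩
  · intro h8
    apply hb
    have h9 : β (u + d • u1) u = β u u := by rw [ha1, hs1, h6, mul_zero, add_zero]
    rw [← h9, h8]
    have := hs1 0 0 u
    rwa [zero_smul, zero_mul] at this
  · rw [hβ, hd, hcb, hss]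

end geo

section top

variable {K : Type} [Field K] [Fintype K] {V : Type} [AddCommGroup V] [Module K V] [Finite V]
  {H : Subgroup (V ≃ₗ[K] V)} {L : Type} [Field L] [Algebra K L] [Finite L]

/-- a subgroup containing `x` and transitive on the points contains `SL_3(q)`, `q ≠ 2` -/
theorem top_of_trans (hn : finrank K V = 3) (hq2 : Nat.card K ≠ 2) {x : V ≃ₗ[K] V}
    (hx : x ∈ H) {ω : Lˣ} {ν : Kˣ} (hω : IsGen ω) (ht : TwoT L K x ω ν) (hT : PTr H) :
    ∀ g : V ≃ₗ[K] V, LinearMap.det (g : V →ₗ[K] V) = 1 → g ∈ H := by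
  have hfin : Module.Finite K V := Module.Finite.of_finite
  have hfinL : Module.Finite K L := Module.Finite.of_finite
  have hdim : finrank K V = finrank K L + 1 := by
    obtain ⟨e, -⟩ := ht
    rw [e.finrank_eq, Module.finrank_prod, finrank_self]
  have hL2 : finrank K L = 2 := by omega
  have hnt : Nontrivial V := Module.nontrivial_of_finrank_pos (R := K) (by omega)
  have hq1 : 2 ≤ Nat.card K := one_lt_q
  have hk1 : ∀ c : Kˣ, c ^ (Nat.card K - 1) = 1 := by
    intro c
    rw [← card_units_base]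
    exact pow_card_eq_one'
  have hbig : ω ^ ((Nat.card K - 1) * 3) ≠ 1 := by
    intro h1
    have h2 := hω.dvd_of_pow (K := K) h1
    rw [hL2] at h2
    obtain ⟨m, hm⟩ : ∃ m, Nat.card K = m + 1 := ⟨Nat.card K - 1, by omega⟩
    rw [hm, Nat.add_sub_cancel] at h2
    have h3 : (m + 1) ^ 2 - 1 = m * (m + 2) := by
      have : (m + 1) ^ 2 = m * (m + 2) + 1 := by ring
      omega
    rw [h3] at h2
    have h4 := Nat.le_of_dvd (by norm_num) (Nat.dvd_of_mul_dvd_mul_left (by omega) h2)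
    omega
  rcases her_three hn hT with h | h | h | h
  · exact h
  · exfalso
    obtain ⟨b, hb2, hbn, hE⟩ := h.exists
    rw [hn] at hbn
    have hb3 : b = 3 := by
      rcases (Nat.dvd_prime Nat.prime_three).1 hbn with h1 | h1
      · omega
      · exact h1
    subst hb3
    have h1 : 3 ∣ finrank K K := ext_dvd_pow hE hx ht (i := Nat.card K - 1) hbig (hk1 _)
    rw [finrank_self] at h1
    omega
  · exact absurd (symp_two h hx hω ht (by omega)) id
  · exfalso
    have h1 : TwoT L K (x ^ (Nat.card K - 1)) (ω ^ (Nat.card K - 1)) 1 := by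
      have := ht.pow (Nat.card K - 1)
      rwa [hk1] at this
    obtain ⟨t, h2, h3⟩ := gam_two h (H.pow_mem hx _) h1 (fun h2 => hbig (by rw [pow_mul, h2, one_pow]))
    rw [finrank_self, one_mul, hn] at h2
    rw [← h2, ← pow_mul] at h3
    exact hbig h3

end top

end Cfsg.Agent.H59.SprPsl
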