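import Mathlib
import Cfsg.Agent.H59.Spr.ThreeCo
import Cfsg.Agent.H855.Spr.Four
import Cfsg.Agent.H947.Spr.Psl2
import Cfsg.Agent.H424.Spr.AltC
import Cfsg.Agent.ClassicalGeometry.AutPSL.Images
import Cfsg.Agent.S0249
import Cfsg.Agent.S0255
import Cfsg.Agent.S0256

/-!
# 3/2-generation of `L_3(4)` and the rows `PSL_n(q)` (helper59)

`spr_psl_three_four` : `L_3(4)`: for a collineation `a` take `P` with `a P ≠ P` and `ℓ` through `a P`; if `a² ≠ 1` replace
`a` by `a²`; a correlation with `a² = 1` has an absolute point `P`.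
`spr_psl` : the row `PSL_n(q)` of S3938.
-/

set_option autoImplicit false
set_option linter.unusedSectionVars false

namespace Cfsg.Agent.H59.SprPsl

open Module Cfsg.Agent.H184.Cov Matrix
open Cfsg.Agent.ClassicalGeometry.AutPSL.Root Cfsg.Agent.ClassicalGeometry.AutPSL.Auto
  Cfsg.Agent.ClassicalGeometry.AutPSL.Main Cfsg.Agent.Schreier.ClassPSL

section

variable {K : Type} [Field K] [Fintype K]

/-- the linear map -/
abbrev rl : Matrix.SpecialLinearGroup (Fin 3) K →* ((Fin 3 → K) ≃ₗ[K] (Fin 3 → K)) :=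
  Matrix.SpecialLinearGroup.toLin'

theorem rl_apply (g : Matrix.SpecialLinearGroup (Fin 3) K) (v : Fin 3 → K) :
    rl g v = (g : Matrix (Fin 3) (Fin 3) K) *ᵥ v := rfl

/-- the key statement for an automorphism `α` of `SL_3(q)`, a point and a line -/
def Key (α : MulAut (Matrix.SpecialLinearGroup (Fin 3) K)) (φ : (Fin 3 → K) →ₗ[K] K) (v₀ : Fin 3 → K) : Prop :=
  ∀ (L : Type) [Field L] [Algebra K L] [Finite L] (e : (Fin 3 → K) ≃ₗ[K] L × K) (x : (Fin 3 → K) ≃ₗ[K] (Fin 3 → K))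
    (ω : Lˣ), finrank K L = 2 → IsGen ω → (∀ c : K, (ω : L) ≠ algebraMap K L c) → e v₀ = (0, 1) →
    (∀ v, (e v).2 = φ v) → (∀ v, e (x v) = ((ω : L) * (e v).1, (((nm ω)⁻¹ : Kˣ) : K) * (e v).2)) →
    ∀ H : Subgroup (Matrix.SpecialLinearGroup (Fin 3) K), x ∈ H.map rl → (∀ h' ∈ H, ∃ h ∈ H, α h = h') →
      PTr (H.map rl)

theorem exists_of_key (hq2 : Nat.card K ≠ 2) {α : MulAut (Matrix.SpecialLinearGroup (Fin 3) K)}
    {φ : (Fin 3 → K) →ₗ[K] K} {v₀ : Fin 3 → K} (hφ : φ v₀ = 1) (key : Key α φ v₀) :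
    ∃ x : Matrix.ProjectiveSpecialLinearGroup (Fin 3) K,
      ∀ Y : Subgroup (Matrix.ProjectiveSpecialLinearGroup (Fin 3) K), x ∈ Y → (∀ k ∈ Y, lift α k ∈ Y) → Y = ⊤ := by
  have hdim : finrank K (Fin 3 → K) = 3 := by simp
  have hq : 2 ≤ Nat.card K := one_lt_q
  obtain ⟨L, i1, i1', i1'', hL⟩ := exists_ext K (k := 2) (by omega)
  obtain ⟨ω, hω⟩ := exists_gen (L := L)
  have hωK : ∀ c : K, (ω : L) ≠ algebraMap K L c := by
    intro c hc
    have h4 := hω.base_pow (i := 1) (c := c) (by rwa [pow_one])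
    rw [one_mul] at h4
    have h5 := Nat.le_of_dvd (by omega) h4
    have h6 : Nat.card K ^ 1 < Nat.card K ^ finrank K L := Nat.pow_lt_pow_right (by omega) (by omega)
    rw [pow_one] at h6
    omega
  obtain ⟨e, x, hev, he2, he, hx⟩ := exists_elt (L := L) hφ (by rw [hdim, hL]) ω
  obtain ⟨x₀, hx₀⟩ := exists_sl hx
  refine ⟨pr x₀, fun Y hxY hY => ?_⟩
  let H : Subgroup (Matrix.SpecialLinearGroup (Fin 3) K) := Y.comap pr
  have hxH : x ∈ H.map rl := ⟨x₀, hxY, hx₀⟩
  have hα : ∀ h ∈ H, α h ∈ H := by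
    intro h hh
    change pr (α h) ∈ Y
    rw [← lift_pr]
    exact hY _ hh
  have hα' : ∀ h' ∈ H, ∃ h ∈ H, α h = h' := by
    have h1 : H.map (α : Matrix.SpecialLinearGroup (Fin 3) K →* Matrix.SpecialLinearGroup (Fin 3) K) = H := by
      apply Subgroup.eq_of_le_of_card_ge
      · rintro _ ⟨h, hh, rfl⟩
        exact hα h hh
      · rw [Nat.card_congr (H.equivMapOfInjective
          (α : Matrix.SpecialLinearGroup (Fin 3) K →* Matrix.SpecialLinearGroup (Fin 3) K) α.injective).toEquiv]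
    intro h' hh'
    rw [← h1] at hh'
    obtain ⟨h, hh, e1⟩ := hh'
    exact ⟨h, hh, e1⟩
  have hT := key L e x ω hL hω hωK hev he2 he H hxH hα'
  have htop := top_of_trans hdim hq2 hxH hω ⟨e, he⟩ hT
  have hH : ∀ y : Matrix.SpecialLinearGroup (Fin 3) K, y ∈ H := by
    intro y
    obtain ⟨z, hz, hzy⟩ := htop (rl y) (by
      have h1 : ((rl y : (Fin 3 → K) ≃ₗ[K] (Fin 3 → K)) : (Fin 3 → K) →ₗ[K] (Fin 3 → K)) =
          Matrix.toLin' (y : Matrix (Fin 3) (Fin 3) K) := Matrix.SpecialLinearGroup.toLin'_to_linearMap y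
      rw [h1, LinearMap.det_toLin', Matrix.SpecialLinearGroup.det_coe])
    have h2 : z = y := Matrix.SpecialLinearGroup.toLin'_injective hzy
    rwa [← h2]
  rw [Subgroup.eq_top_iff']
  intro y
  obtain ⟨y, rfl⟩ := pr_surjective y
  exact hH y

/-- the semilinear map -/
def sT (A : GL (Fin 3) K) (σ : K ≃+* K) (v : Fin 3 → K) : Fin 3 → K :=
  (A : Matrix (Fin 3) (Fin 3) K) *ᵥ (fun i => σ (v i))

theorem sT_add (A : GL (Fin 3) K) (σ : K ≃+* K) (u v : Fin 3 → K) : sT A σ (u + v) = sT A σ u + sT A σ v := by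
  rw [sT, sT, sT, ← Matrix.mulVec_add]
  congr 1
  ext i
  exact map_add σ _ _

theorem sT_smul (A : GL (Fin 3) K) (σ : K ≃+* K) (c : K) (v : Fin 3 → K) : sT A σ (c • v) = σ c • sT A σ v := by
  rw [sT, sT, ← Matrix.mulVec_smul]
  congr 1
  ext i
  exact map_mul σ _ _

theorem inv_mul_cancel_mulVec (A : GL (Fin 3) K) (v : Fin 3 → K) :
    ((A⁻¹ : GL (Fin 3) K) : Matrix (Fin 3) (Fin 3) K) *ᵥ ((A : Matrix (Fin 3) (Fin 3) K) *ᵥ v) = v := by
  rw [mulVec_mulVec, ← Units.val_mul, inv_mul_cancel, Units.val_one, one_mulVec]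

theorem mul_inv_cancel_mulVec (A : GL (Fin 3) K) (v : Fin 3 → K) :
    (A : Matrix (Fin 3) (Fin 3) K) *ᵥ (((A⁻¹ : GL (Fin 3) K) : Matrix (Fin 3) (Fin 3) K) *ᵥ v) = v := by
  rw [mulVec_mulVec, ← Units.val_mul, mul_inv_cancel, Units.val_one, one_mulVec]

theorem sT_bij (A : GL (Fin 3) K) (σ : K ≃+* K) : Function.Bijective (sT A σ) := by
  have h1 : Function.Injective (sT A σ) := by
    intro u v h
    rw [sT, sT] at h
    have h2 := congrArg (fun w => ((A⁻¹ : GL (Fin 3) K) : Matrix (Fin 3) (Fin 3) K) *ᵥ w) h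
    simp only [inv_mul_cancel_mulVec] at h2
    ext i
    exact σ.injective (congrFun h2 i)
  exact ⟨h1, Finite.surjective_of_injective h1⟩

theorem map_mulVec' (σ : K ≃+* K) (g : Matrix.SpecialLinearGroup (Fin 3) K) (v : Fin 3 → K) :
    (fun i => σ (((g : Matrix (Fin 3) (Fin 3) K) *ᵥ v) i)) =
      (fld σ g : Matrix (Fin 3) (Fin 3) K) *ᵥ (fun i => σ (v i)) := by
  ext i
  simp only [mulVec, dotProduct, map_sum, map_mul, coe_fld_apply]

theorem sT_mul (A : GL (Fin 3) K) (σ : K ≃+* K) (g : Matrix.SpecialLinearGroup (Fin 3) K) (v : Fin 3 → K) :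
    rl ((cj A * fld σ : MulAut (Matrix.SpecialLinearGroup (Fin 3) K)) g) (sT A σ v) = sT A σ (rl g v) := by
  rw [rl_apply, rl_apply, sT, sT, map_mulVec', MulAut.mul_apply, coe_cj, ← mulVec_mulVec, ← mulVec_mulVec,
    inv_mul_cancel_mulVec]

/-- collineations -/
theorem key_coll {A : GL (Fin 3) K} {σ : K ≃+* K} {φ : (Fin 3 → K) →ₗ[K] K} {v₀ : Fin 3 → K}
    (h0 : φ (sT A σ v₀) = 0) : Key (cj A * fld σ) φ v₀ := by
  intro L _ _ _ e x ω hL hω hωK hev he2 he H hxH hα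
  refine ptr_of_coll (T := sT A σ) (σ := σ) hxH hω hωK hev he (sT_add A σ) (sT_smul A σ) (sT_bij A σ) ?_ (by
    rw [he2, h0])
  rintro _ ⟨h', hh', rfl⟩
  obtain ⟨h, hh, rfl⟩ := hα h' hh'
  exact ⟨rl h, ⟨h, hh, rfl⟩, sT_mul A σ h⟩

/-- the sesquilinear form of a correlation -/
def sB (A : GL (Fin 3) K) (σ : K ≃+* K) (u v : Fin 3 → K) : K :=
  (((A⁻¹ : GL (Fin 3) K) : Matrix (Fin 3) (Fin 3) K) *ᵥ u) ⬝ᵥ (fun i => σ (v i))

theorem sB_add_left (A : GL (Fin 3) K) (σ : K ≃+* K) (u u' v : Fin 3 → K) :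
    sB A σ (u + u') v = sB A σ u v + sB A σ u' v := by
  rw [sB, sB, sB, mulVec_add, add_dotProduct]

theorem sB_smul_left (A : GL (Fin 3) K) (σ : K ≃+* K) (c : K) (u v : Fin 3 → K) :
    sB A σ (c • u) v = c * sB A σ u v := by
  rw [sB, sB, mulVec_smul, smul_dotProduct, smul_eq_mul]

theorem sB_add_right (A : GL (Fin 3) K) (σ : K ≃+* K) (u v v' : Fin 3 → K) :
    sB A σ u (v + v') = sB A σ u v + sB A σ u v' := by
  rw [sB, sB, sB, ← dotProduct_add]
  congr 1
  ext i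
  exact map_add σ _ _

theorem sB_smul_right (A : GL (Fin 3) K) (σ : K ≃+* K) (c : K) (u v : Fin 3 → K) :
    sB A σ u (c • v) = σ c * sB A σ u v := by
  rw [sB, sB, ← smul_eq_mul, ← dotProduct_smul]
  congr 1
  ext i
  exact map_mul σ _ _

theorem sB_nd (A : GL (Fin 3) K) (σ : K ≃+* K) (v : Fin 3 → K) (h : ∀ u, sB A σ u v = 0) : v = 0 := by
  have h1 : ∀ w : Fin 3 → K, w ⬝ᵥ (fun i => σ (v i)) = 0 := by
    intro w
    have h2 := h ((A : Matrix (Fin 3) (Fin 3) K) *ᵥ w)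
    rwa [sB, inv_mul_cancel_mulVec] at h2
  ext i
  apply σ.injective
  have h2 := h1 (Pi.single i 1)
  rw [single_dotProduct, one_mul] at h2
  rw [h2]
  exact (map_zero σ).symm

theorem sB_mul (A : GL (Fin 3) K) (σ : K ≃+* K) (g : Matrix.SpecialLinearGroup (Fin 3) K) (u v : Fin 3 → K) :
    sB A σ (rl ((cj A * fld σ * itr : MulAut (Matrix.SpecialLinearGroup (Fin 3) K)) g) u) (rl g v) = sB A σ u v := by
  rw [rl_apply, rl_apply, sB, sB, map_mulVec', MulAut.mul_apply, MulAut.mul_apply, coe_cj, ← mulVec_mulVec,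
    ← mulVec_mulVec, inv_mul_cancel_mulVec, dotProduct_mulVec, ← mulVec_transpose, mulVec_mulVec]
  congr 1
  have h1 : ((fld σ g : Matrix.SpecialLinearGroup (Fin 3) K) : Matrix (Fin 3) (Fin 3) K)ᵀ *
      ((fld σ (itr g) : Matrix.SpecialLinearGroup (Fin 3) K) : Matrix (Fin 3) (Fin 3) K) = 1 := by
    have h2 : itr (fld σ g) = fld σ (itr g) := DFunLike.congr_fun (itr_mul_fld σ) g
    rw [← h2, coe_itr, ← transpose_mul, ← Matrix.SpecialLinearGroup.coe_mul, inv_mul_cancel,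
      Matrix.SpecialLinearGroup.coe_one, transpose_one]
  rw [h1, one_mulVec]

/-- correlations -/
theorem key_corr {A : GL (Fin 3) K} {σ : K ≃+* K} {φ : (Fin 3 → K) →ₗ[K] K} {v₀ : Fin 3 → K}
    (h0 : sB A σ v₀ v₀ = 0) : Key (cj A * fld σ * itr) φ v₀ := by
  intro L _ _ _ e x ω hL hω hωK hev he2 he H hxH hα
  refine ptr_of_corr (β := sB A σ) (σ := σ) hL hxH hω hωK hev he (sB_add_left A σ) (sB_smul_left A σ)
    (sB_add_right A σ) (sB_smul_right A σ) (sB_nd A σ) ?_ h0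
  rintro _ ⟨h', hh', rfl⟩
  obtain ⟨h, hh, rfl⟩ := hα h' hh'
  exact ⟨rl h, ⟨h, hh, rfl⟩, sB_mul A σ h⟩

theorem exists_form_of_ne {v w : Fin 3 → K} (h : ∀ c : K, v ≠ c • w) : ∃ φ : (Fin 3 → K) →ₗ[K] K, φ v = 1 ∧ φ w = 0 := by
  have h1 : v ∉ Submodule.span K {w} := by
    rw [Submodule.mem_span_singleton]
    rintro ⟨c, hc⟩
    exact h c hc.symm
  obtain ⟨f, hf, hfw⟩ := Submodule.exists_le_ker_of_notMem h1
  refine ⟨(f v)⁻¹ • f, ?_, ?_⟩
  · rw [LinearMap.smul_apply, smul_eq_mul, inv_mul_cancel₀ hf]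
  · have h2 : f w = 0 := hfw (Submodule.mem_span_singleton_self w)
    rw [LinearMap.smul_apply, h2, smul_zero]

/-- a collineation fixing all points is trivial -/
theorem trivial_of_fix {A : GL (Fin 3) K} {σ : K ≃+* K} (h : ∀ v, ∃ c : K, sT A σ v = c • v) :
    lift (cj A * fld σ) = 1 := by
  -- `A` is scalar
  have h1 : ∀ i : Fin 3, ∃ c : K, (A : Matrix (Fin 3) (Fin 3) K) *ᵥ Pi.single i 1 = c • Pi.single i 1 := by
    intro i
    obtain ⟨c, hc⟩ := h (Pi.single i 1)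
    refine ⟨c, ?_⟩
    rw [← hc, sT]
    congr 1
    ext j
    by_cases hj : j = i
    · subst hj
      rw [Pi.single_eq_same, map_one]
    · rw [Pi.single_eq_of_ne hj, map_zero]
  choose c hc using h1
  have h2 : ∀ (i j : Fin 3) (t : K), i ≠ j → c j * σ t = c i * t := by
    intro i j t hij
    obtain ⟨d, hd⟩ := h (Pi.single i 1 + t • Pi.single j 1)
    rw [sT_add, sT_smul] at hd
    have h3 : ∀ i : Fin 3, sT A σ (Pi.single i 1) = c i • Pi.single i 1 := by
      intro i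
      rw [← hc, sT]
      congr 1
      ext j
      by_cases hj : j = i
      · subst hj
        rw [Pi.single_eq_same, map_one]
      · rw [Pi.single_eq_of_ne hj, map_zero]
    rw [h3, h3] at hd
    have h4 := congrFun hd i
    have h5 := congrFun hd j
    simp only [Pi.add_apply, Pi.smul_apply, Pi.single_eq_same, Pi.single_eq_of_ne hij, Pi.single_eq_of_ne hij.symm,
      smul_eq_mul, mul_one, mul_zero, add_zero, zero_add] at h4 h5
    rw [h4, ← h5]
    ring
  have hcc : ∀ i j : Fin 3, c i = c j := by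
    intro i j
    by_cases hij : i = j
    · rw [hij]
    · have := h2 i j 1 hij
      rw [map_one, mul_one, mul_one] at this
      exact this.symm
  have hc0 : c 0 ≠ 0 := by
    intro h0
    have h3 := congrArg (fun w => ((A⁻¹ : GL (Fin 3) K) : Matrix (Fin 3) (Fin 3) K) *ᵥ w) (hc 0)
    simp only [inv_mul_cancel_mulVec, h0, zero_smul, mulVec_zero] at h3
    have h4 := congrFun h3 0
    rw [Pi.single_eq_same] at h4
    exact one_ne_zero h4
  have hσ : σ = 1 := by
    apply RingEquiv.ext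
    intro t
    have h3 := h2 0 1 t (by decide)
    rw [hcc 1 0] at h3
    exact mul_left_cancel₀ hc0 h3
  have hA : scalar (Fin 3) (c 0) = (A : Matrix (Fin 3) (Fin 3) K) := by
    ext i j
    have h3 := congrFun (hc j) i
    rw [mulVec_single_one] at h3
    change (A : Matrix (Fin 3) (Fin 3) K) i j = _ at h3
    rw [h3, scalar_apply, diagonal_apply, hcc j 0, Pi.smul_apply, smul_eq_mul]
    by_cases hij : i = j
    · rw [if_pos hij, hij, Pi.single_eq_same, mul_one]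
    · rw [if_neg hij, Pi.single_eq_of_ne hij, mul_zero]
  rw [cj_eq_one_of_scalar hA, hσ, map_one fld, mul_one, map_one]

/-- collineations -/
theorem spr_coll (hq2 : Nat.card K ≠ 2) {A : GL (Fin 3) K} {σ : K ≃+* K} (h : lift (cj A * fld σ) ≠ 1) :
    ∃ x : Matrix.ProjectiveSpecialLinearGroup (Fin 3) K,
      ∀ Y : Subgroup (Matrix.ProjectiveSpecialLinearGroup (Fin 3) K), x ∈ Y →
        (∀ k ∈ Y, lift (cj A * fld σ) k ∈ Y) → Y = ⊤ := by
  obtain ⟨v₀, hv₀⟩ : ∃ v, ∀ c : K, sT A σ v ≠ c • v := by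
    by_contra hcon
    push Not at hcon
    exact h (trivial_of_fix hcon)
  have h1 : ∀ c : K, v₀ ≠ c • sT A σ v₀ := by
    intro c hc
    by_cases h0 : c = 0
    · rw [h0, zero_smul] at hc
      apply hv₀ 0
      rw [hc, zero_smul]
      have := sT_smul A σ 0 0
      rwa [zero_smul, map_zero, zero_smul] at this
    · apply hv₀ c⁻¹
      rw [eq_inv_smul_iff₀ h0, ← hc]
  obtain ⟨φ, hφ, hφ0⟩ := exists_form_of_ne h1
  exact exists_of_key hq2 hφ (key_coll hφ0)

theorem exists_phi {v₀ : Fin 3 → K} (h : v₀ ≠ 0) : ∃ φ : (Fin 3 → K) →ₗ[K] K, φ v₀ = 1 := by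
  obtain ⟨φ, h1, -⟩ := exists_form_of_ne (v := v₀) (w := 0) (fun c => by rwa [smul_zero])
  exact ⟨φ, h1⟩

/-- **`L_3(4)`** -/
theorem spr_psl_three_four (h4 : Nat.card K = 4) :
    Cfsg.Agent.H424.Spr.Spr (Matrix.ProjectiveSpecialLinearGroup (Fin 3) K) := by
  intro a ha
  have hq2 : Nat.card K ≠ 2 := by omega
  obtain ⟨r, hr⟩ := CharP.exists K
  have : Fact r.Prime := ⟨CharP.char_is_prime K r⟩
  rcases surj_three r le_rfl a with ⟨A, σ, h⟩ | ⟨A, σ, h⟩
  · rw [h] at ha ⊢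
    exact spr_coll hq2 ha
  · -- `a²`
    have hsq : a * a = lift (cj (A * Matrix.GeneralLinearGroup.map (σ : K →+* K) (ctr A)) * fld (σ * σ)) := by
      rw [h, ← map_mul lift]
      congr 1
      calc cj A * fld σ * itr * (cj A * fld σ * itr)
          = cj A * fld σ * (itr * cj A) * fld σ * itr := by simp only [mul_assoc]
        _ = cj A * fld σ * cj (ctr A) * (itr * fld σ) * itr := by rw [itr_mul_cj]; simp only [mul_assoc]
        _ = cj A * fld σ * cj (ctr A) * fld σ * (itr * itr) := by rw [itr_mul_fld]; simp only [mul_assoc]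
        _ = cj A * (fld σ * cj (ctr A)) * fld σ := by rw [itr_mul_itr, mul_one]; simp only [mul_assoc]
        _ = cj (A * Matrix.GeneralLinearGroup.map (σ : K →+* K) (ctr A)) * fld (σ * σ) := by
            rw [fld_mul_cj, map_mul cj, map_mul fld]; simp only [mul_assoc]
    by_cases h2 : a * a = 1
    · rw [hsq] at h2
      rw [← map_one lift, ← map_one (fld (ι := Fin 3) (F := K))] at h2
      obtain ⟨⟨s, hs⟩, hσ⟩ := injective_aux h2
      have hσ' : ∀ z, σ (σ z) = z := fun z => RingEquiv.congr_fun hσ z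
      -- `σ(A⁻¹)ᵀ = s A⁻¹`
      have hs' : ((Matrix.GeneralLinearGroup.map (σ : K →+* K) (ctr A) : GL (Fin 3) K) : Matrix (Fin 3) (Fin 3) K) =
          s • ((A⁻¹ : GL (Fin 3) K) : Matrix (Fin 3) (Fin 3) K) := by
        rw [Units.val_mul] at hs
        have h3 : ((A⁻¹ : GL (Fin 3) K) : Matrix (Fin 3) (Fin 3) K) * ((A : Matrix (Fin 3) (Fin 3) K) *
            ((Matrix.GeneralLinearGroup.map (σ : K →+* K) (ctr A) : GL (Fin 3) K) : Matrix (Fin 3) (Fin 3) K)) =
            ((Matrix.GeneralLinearGroup.map (σ : K →+* K) (ctr A) : GL (Fin 3) K) : Matrix (Fin 3) (Fin 3) K) := by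
          rw [← mul_assoc, ← Units.val_mul, inv_mul_cancel, Units.val_one, one_mul]
        rw [← h3, ← hs, scalar_apply, ← smul_one_eq_diagonal, mul_smul_comm, mul_one]
      have hs0 : s ≠ 0 := by
        rintro rfl
        rw [zero_smul] at hs'
        have h5 : (1 : Matrix (Fin 3) (Fin 3) K) = 0 := by
          rw [← (Matrix.GeneralLinearGroup.map (σ : K →+* K) (ctr A)).mul_inv, hs', zero_mul]
        have h6 := congrFun (congrFun h5 0) 0
        rw [Matrix.one_apply_eq] at h6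
        exact one_ne_zero h6
      have hrefl : ∀ u v, sB A σ u v = 0 → sB A σ v u = 0 := by
        intro u v huv
        have h3 : σ (sB A σ u v) = s * sB A σ v u := by
          have h5 : σ (sB A σ u v) = (fun i => σ (u i)) ⬝ᵥ
              (((Matrix.GeneralLinearGroup.map (σ : K →+* K) (ctr A) : GL (Fin 3) K) : Matrix (Fin 3) (Fin 3) K) *ᵥ v)
              := by
            have h6 : σ (sB A σ u v) = (fun i => σ ((((A⁻¹ : GL (Fin 3) K) : Matrix (Fin 3) (Fin 3) K) *ᵥ u) i)) ⬝ᵥ v := by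
              rw [sB]
              simp only [dotProduct, map_sum, map_mul, hσ']
            have h7 : (fun i => σ ((((A⁻¹ : GL (Fin 3) K) : Matrix (Fin 3) (Fin 3) K) *ᵥ u) i)) =
                (((A⁻¹ : GL (Fin 3) K) : Matrix (Fin 3) (Fin 3) K).map σ) *ᵥ (fun i => σ (u i)) := by
              ext i
              simp only [mulVec, dotProduct, map_sum, map_mul, Matrix.map_apply]
            rw [h6, h7, ← vecMul_transpose, ← dotProduct_mulVec]
            rfl
          rw [h5, hs', smul_mulVec, dotProduct_smul, smul_eq_mul, dotProduct_comm]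
          rfl
        rw [huv, map_zero] at h3
        exact (mul_eq_zero.1 h3.symm).resolve_left hs0
      obtain ⟨v₀, hv₀, h0⟩ := exists_abs h4 (by simp) (sB_add_left A σ) (sB_smul_left A σ) (sB_add_right A σ)
        (sB_smul_right A σ) hrefl
      obtain ⟨φ, hφ⟩ := exists_phi hv₀
      rw [h]
      exact exists_of_key hq2 hφ (key_corr h0)
    · rw [hsq] at h2
      obtain ⟨x, hx⟩ := spr_coll hq2 h2
      refine ⟨x, fun Y hxY hY => hx Y hxY fun k hk => ?_⟩
      rw [← hsq]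
      exact hY _ (hY _ hk)

end

/-- **The row `PSL_n(q)` of S3938.** -/
theorem spr_psl {n : ℕ} {F : Type} [Field F] [Fintype F] (hn : 2 ≤ n) (h2 : n = 2 → 4 ≤ Fintype.card F) :
    Cfsg.Agent.H424.Spr.Spr (Matrix.ProjectiveSpecialLinearGroup (Fin n) F) := by
  rcases Nat.eq_or_lt_of_le hn with rfl | hn3
  · exact Cfsg.Agent.H947.Spr.spr_psl2 (h2 rfl)
  have hs : IsSimpleGroup (Matrix.ProjectiveSpecialLinearGroup (Fin n) F) := Cfsg.Agent.S0249.result n hn3
  have hq : 2 ≤ Nat.card F := one_lt_q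
  have hna : ∃ x y : Matrix.ProjectiveSpecialLinearGroup (Fin n) F, x * y ≠ y * x := by
    have hij : (⟨0, by omega⟩ : Fin n) ≠ ⟨1, by omega⟩ := by simp [Fin.ext_iff]
    have hjk : (⟨1, by omega⟩ : Fin n) ≠ ⟨2, hn3⟩ := by simp [Fin.ext_iff]
    have hik : (⟨0, by omega⟩ : Fin n) ≠ ⟨2, hn3⟩ := by simp [Fin.ext_iff]
    exact ⟨_, _, fun h => Cfsg.Agent.ClassicalGeometry.AutPSL.Images.not_commute (F := F) hij hjk hik h⟩
  by_cases h5 : 5 ≤ n
  · exact spr_psl_five h5 hna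
  obtain rfl | rfl : n = 3 ∨ n = 4 := by omega
  · by_cases hF2 : Fintype.card F = 2
    · obtain ⟨e⟩ := Cfsg.Agent.S0255.result (F := ZMod 7) (K := F) (by simp) hF2
      exact Cfsg.Agent.H424.Spr.Spr.congr e (Cfsg.Agent.H947.Spr.spr_psl2 (by simp))
    · by_cases hF4 : Nat.card F = 4
      · exact spr_psl_three_four hF4
      · exact spr_psl_three hna (by rwa [Nat.card_eq_fintype_card]) hF4
  · by_cases hF2 : Fintype.card F = 2
    · obtain ⟨e⟩ := Cfsg.Agent.S0256.result (F := F) hF2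
      exact Cfsg.Agent.H424.SprAlt.row_alternating hna ⟨8, by norm_num, ⟨e⟩⟩
    · refine spr_psl_of (by omega) hna ?_
      intro L _ _ _ H x ω hx hω ht _
      rw [Nat.card_eq_fintype_card] at hq
      exact Cfsg.Agent.H855.Spr.over_k_four (by simp) (by omega) hx hω ht

end Cfsg.Agent.H59.SprPsl
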